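import Cfsg.Agent.EqLemmas
import Cfsg.Agent.Lib.Goldschmidt.ThreeInv.Shape

/-!
# Three involutions, section 2: interfaces of the pieces (owner: helper63)

* `NoTwoTypes` : (c), an element of `O(C(A))` centralised by some `q ∈ S \ A` has fixed points in at most
  one `T a`
* `CoreCentTarget` : (d), `S` centralises `O(C(A))`
* `PowFourTarget` : (e), an `S`-invariant subgroup of `T a` has order a fourth power
-/

set_option autoImplicit false
set_option linter.unusedSectionVars false

namespace Cfsg.Agent.Goldschmidt.ThreeInv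

open Cfsg Subgroup

universe u

variable {G : Type u} [Group G]

/-- No element of `O(C(A))` with centraliser in `S` above `A` fixes points of two types. -/
def NoTwoTypes (S : Sylow 2 G) (A : Subgroup G) (T : G → Subgroup G) : Prop :=
  ∀ y ∈ coreA A, y ≠ 1 → ∀ q ∈ (S : Subgroup G), q ∉ A → q * y = y * q →
    ∀ a ∈ A, a ≠ 1 → ∀ b ∈ A, b ≠ 1 → a ≠ b → ∀ t ∈ T a, t ≠ 1 → t * y = y * t →
      ∀ u ∈ T b, u ≠ 1 → u * y = y * u → False

/-- Section 2 (d). -/
def CoreCentTarget : Prop :=
  ∀ (G : Type u) [Group G] [Finite G] (S : Sylow 2 G) (A : Subgroup G) (T : G → Subgroup G),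
    Hyp S A → TorusData S A T → NoTwoTypes S A T →
      coreA A ≤ centralizer ((S : Subgroup G) : Set G)

/-- Section 2 (e), also the rank of `Ω₁(T a)` used in (b). -/
def PowFourTarget : Prop :=
  ∀ (G : Type u) [Group G] [Finite G] [IsSimpleGroup G] (S : Sylow 2 G) (A : Subgroup G)
    (T : G → Subgroup G), Setting S A → TorusData S A T → ∀ a ∈ A, a ≠ 1 → ∀ V : Subgroup G,
      V ≤ T a → (S : Subgroup G) ≤ normalizer (V : Set G) → ∃ k : ℕ, Nat.card ↥V = k ^ 4

end Cfsg.Agent.Goldschmidt.ThreeInv
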