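import Cfsg.Agent.EqLemmas
import Cfsg.Agent.Lib.Goldschmidt.ThreeInv.Cent.Defs
import Cfsg.Agent.Lib.Solvable.Fitting
import Cfsg.Agent.Lib.OddOrderTheorem.Basic

/-!
# Three involutions, section 2: parts of an odd subgroup (owner: helper63)

* `part D r` : `O_r(D)` as a subgroup of `G`
* `centralizes_of_parts` : an involution centralising all parts of an odd `D` centralises `D`
* `mem_of_centralizes_parts` : an element of `D` centralising all parts lies in their join
* `TorusData.commute_of_inverted` : `r` and its conjugate under `t ∈ T a` in `C(v)`, `v ≠ a`, force `[t, r] = 1`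
-/

set_option autoImplicit false
set_option linter.unusedSectionVars false

namespace Cfsg.Agent.Goldschmidt.ThreeInv

open Subgroup

universe u

variable {G : Type u} [Group G] [Finite G]

/-- `O_r(D)` in `G`. -/
noncomputable def part (D : Subgroup G) (r : ℕ) : Subgroup G := (Cfsg.pCore r ↥D).map D.subtype

theorem part_le (D : Subgroup G) (r : ℕ) : part D r ≤ D := map_subtype_le _

theorem part_isPGroup (D : Subgroup G) (r : ℕ) : IsPGroup r ↥(part D r) :=
  (Cores.isPGroup_pCore r ↥D).map D.subtype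

theorem normalizer_le_part (D : Subgroup G) (r : ℕ) :
    normalizer (D : Set G) ≤ normalizer (part D r : Set G) := Cores.normalizer_le_normalizer_map _

theorem le_fitting_of_parts {D K : Subgroup G} (hK : ∀ r : ℕ, r.Prime → part D r ≤ K) :
    (Cfsg.fittingSubgroup ↥D).map D.subtype ≤ K := by
  rw [Cores.fittingSubgroup_eq_iSup_pCore, Subgroup.map_iSup]
  exact iSup_le fun r => hK r r.2

theorem centralizes_fitting {D : Subgroup G} {x : G}
    (h : ∀ r : ℕ, r.Prime → ∀ y ∈ part D r, x * y = y * x) :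
    ∀ y ∈ (Cfsg.fittingSubgroup ↥D).map D.subtype, x * y = y * x := fun _ hy =>
  (mem_centralizer_singleton_iff.1
    (le_fitting_of_parts (K := centralizer ({x} : Set G))
      (fun r hr z hz => mem_centralizer_singleton_iff.2 (h r hr z hz).symm) hy)).symm

/-- An element of an odd `D` centralising all parts lies in their join. -/
theorem mem_of_centralizes_parts {D K : Subgroup G} (hD : Odd (Nat.card D)) {t : G} (ht : t ∈ D)
    (h : ∀ r : ℕ, r.Prime → ∀ y ∈ part D r, t * y = y * t) (hK : ∀ r : ℕ, r.Prime → part D r ≤ K) :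
    t ∈ K := by
  haveI := OddOrderTheorem.solvable hD
  refine le_fitting_of_parts hK ⟨⟨t, ht⟩, Solvable.centralizer_fitting_le ↥D
    (mem_centralizer_iff.2 fun y hy => Subtype.ext ?_), rfl⟩
  exact (centralizes_fitting h _ ⟨y, hy, rfl⟩).symm

/-- An involution normalising an odd `D` and centralising all its parts centralises `D`. -/
theorem centralizes_of_parts {D : Subgroup G} (hD : Odd (Nat.card D)) {a : G} (ha : a * a = 1)
    (haD : a ∈ normalizer (D : Set G)) (h : ∀ r : ℕ, r.Prime → ∀ y ∈ part D r, a * y = y * a)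
    {d : G} (hd : d ∈ D) : a * d = d * a := by
  haveI := OddOrderTheorem.solvable hD
  have hd' : a * d * a⁻¹ ∈ D := (mem_normalizer_iff.1 haD d).1 hd
  set F := (Cfsg.fittingSubgroup ↥D).map D.subtype
  have hFD : F ≤ D := map_subtype_le _
  have haF : ∀ y ∈ F, a * y * a⁻¹ = y := fun y hy => by
    rw [centralizes_fitting h y hy, mul_inv_cancel_right]
  -- `c = [a, d]` lies in the Fitting subgroup
  have hc : a * d * a⁻¹ * d⁻¹ ∈ F := by
    refine ⟨⟨_, D.mul_mem hd' (D.inv_mem hd)⟩, Solvable.centralizer_fitting_le ↥D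
      (mem_centralizer_iff.2 fun y hy => Subtype.ext ?_), rfl⟩
    set z : G := d⁻¹ * (y : G) * d
    have hzF : z ∈ F := by
      haveI : (Cfsg.fittingSubgroup ↥D).Normal := Subgroup.sSup_normal _ fun _ h => h.1
      exact ⟨(⟨d, hd⟩ : ↥D)⁻¹ * y * ⟨d, hd⟩, by
        simpa using (inferInstance : (Cfsg.fittingSubgroup ↥D).Normal).conj_mem y hy (⟨d, hd⟩ : ↥D)⁻¹, rfl⟩
    have hyF : (y : G) ∈ F := ⟨y, hy, rfl⟩
    show (y : G) * (a * d * a⁻¹ * d⁻¹) = a * d * a⁻¹ * d⁻¹ * (y : G)
    calc (y : G) * (a * d * a⁻¹ * d⁻¹) = a * (a⁻¹ * (y : G) * a) * d * a⁻¹ * d⁻¹ := by group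
      _ = a * (y : G) * d * a⁻¹ * d⁻¹ := by
        rw [show a⁻¹ * (y : G) * a = y by rw [mul_assoc, ← centralizes_fitting h y hyF, inv_mul_cancel_left]]
      _ = a * d * z * a⁻¹ * d⁻¹ := by simp only [z]; group
      _ = a * d * a⁻¹ * (a * z * a⁻¹) * d⁻¹ := by group
      _ = a * d * a⁻¹ * d⁻¹ * (y : G) := by rw [haF z hzF]; simp only [z]; group
  set c := a * d * a⁻¹ * d⁻¹
  have h1 : a * c * a⁻¹ = c := haF c hc
  have h2 : c * c = 1 := by
    have hinv : a⁻¹ = a := inv_eq_of_mul_eq_one_right ha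
    calc c * c = a * c * a⁻¹ * c := by rw [h1]
      _ = 1 := by
        simp only [c, hinv]
        rw [show a * (a * d * a * d⁻¹) * a * (a * d * a * d⁻¹) = a * a * d * a * d⁻¹ * (a * a) * d * a * d⁻¹ by group,
          ha, one_mul, mul_one]
        calc d * a * d⁻¹ * d * a * d⁻¹ = d * (a * a) * d⁻¹ := by group
          _ = 1 := by rw [ha]; group
  have hc1 : c = 1 := by
    obtain ⟨k, hk⟩ := hD.of_dvd_nat (Subgroup.orderOf_dvd_natCard _ (hFD hc))
    have := pow_orderOf_eq_one c
    rwa [hk, pow_succ, pow_mul, pow_two, h2, one_pow, one_mul] at this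
  exact mul_inv_eq_iff_eq_mul.1 (mul_inv_eq_one.1 hc1)

variable {S : Sylow 2 G} {A : Subgroup G} {T : G → Subgroup G}

namespace TorusData

/-- If `r` and its conjugate by `t ∈ T a` are centralised by `v ≠ a` then `t` centralises `r`. -/
theorem commute_of_inverted (hT : TorusData S A T) {a v : G} (ha : a ∈ A) (ha1 : a ≠ 1) (hv : v ∈ A)
    (hv1 : v ≠ 1) (hva : v ≠ a) {t r : G} (ht : t ∈ T a) (hr : v * r = r * v)
    (hr' : v * (t * r * t⁻¹) = t * r * t⁻¹ * v) : t * r = r * t := by
  have hi : v * t * v⁻¹ = t⁻¹ := hT.inverts a ha ha1 v hv hv1 hva t ht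
  have e : t⁻¹ * r * t = t * r * t⁻¹ := by
    calc t⁻¹ * r * t = v * t * v⁻¹ * (v * r * v⁻¹) * (v * t * v⁻¹)⁻¹ := by
          rw [hi, hr, mul_inv_cancel_right, inv_inv]
      _ = v * (t * r * t⁻¹) * v⁻¹ := by group
      _ = t * r * t⁻¹ := by rw [hr', mul_inv_cancel_right]
  have h2 : Commute (t * t) r := by
    calc t * t * r = t * (t * r * t⁻¹) * t := by group
      _ = r * (t * t) := by rw [← e]; group
  obtain ⟨k, hk⟩ := (hT.odd a ha ha1).of_dvd_nat (Subgroup.orderOf_dvd_natCard _ ht)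
  have h3 : (t * t) ^ (k + 1) = t := by
    rw [← pow_two, ← pow_mul, show 2 * (k + 1) = orderOf t + 1 by omega, pow_succ, pow_orderOf_eq_one, one_mul]
  exact h3 ▸ (h2.pow_left (k + 1)).eq

end TorusData

end Cfsg.Agent.Goldschmidt.ThreeInv
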