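import Cfsg.Agent.EqLemmas
import Cfsg.Agent.Lib.Goldschmidt.ThreeInv.Cent.Parts
import Cfsg.Agent.Lib.Goldschmidt.ThreeInv.Cent.CoreCent.Signed

/-!
# Three involutions, section 2 (d): `S` centralises `O(C(A))` (owner: helper87)

If `S` moves an `r`-part `K` of `O(C(A))`, minimal with `⁅K, K⁆` centralised, there is a signed
element `y` of order `r`; with two conjugates by an element of odd order of `N(S) ∩ C(A)` it
generates a group of order `r³` centralised by some `q ∈ S \ A`, against `NoTwoTypes`.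

* `coreCentTarget`
-/

set_option autoImplicit false
set_option linter.style.haveILetI false
set_option linter.unusedSectionVars false

namespace Cfsg.Agent.Goldschmidt.ThreeInv.CoreCent

open Subgroup
open scoped commutatorElement

universe u

variable {G : Type u} [Group G] [Finite G] {S : Sylow 2 G} {A : Subgroup G} {T : G → Subgroup G}

/-- An element of odd order of `N(S) ∩ C(A)` outside `O(C(A))`. -/
theorem exists_odd_outside [IsSimpleGroup G] (hT : TorusData S A T) (h : Setting S A) :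
    ∃ g : G, g ∈ normalizer ((S : Subgroup G) : Set G) ∧ g ∈ centralizer (A : Set G) ∧
      Odd (orderOf g) ∧ g ∉ coreA A := by
  by_contra hno
  push Not at hno
  obtain ⟨a, ha, ha1⟩ := h.exists_ne_one
  have hle : centralizer (A : Set G) ≤ coreA A ⊔ (S : Subgroup G) := fun x hx => by
    obtain ⟨k, hk, n, hn, hnA, rfl⟩ := h.exists_factor hx
    exact mul_mem (mem_sup_left hk) (mem_of_parts
      (fun j hj => mem_sup_left (hno _ (pow_mem hn j) (pow_mem hnA j) hj))
      fun j ⟨l, hl⟩ => mem_sup_right (h.mem_of_two_power (pow_mem hn j) hl))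
  have h1 := Subgroup.card_le_of_le hle
  rw [TorusData.card_centralizer_A hT h ha ha1, Coprime.card_sup_of_coprime (fun s hs =>
    mem_normalizer_fintype fun y hy => conj_mem_coreA (h.central hs) hy) (by
      rw [h.card_S, show 64 = 2 ^ 6 by rfl]
      exact (Nat.coprime_two_right.2 (odd_coreA A)).pow_right 6), h.card_S] at h1
  have := (odd_coreA A).pos
  omega

/-- Three signed elements of `O(C(A))` have a common fixer outside `A`. -/
theorem exists_common_fix [IsSimpleGroup G] (h : Setting S A) {x y z : G}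
    (hx : Signed (S : Subgroup G) x) (hy : Signed (S : Subgroup G) y) (hz : Signed (S : Subgroup G) z) :
    ∃ q ∈ (S : Subgroup G), q ∉ A ∧
      MulAut.conj q x = x ∧ MulAut.conj q y = y ∧ MulAut.conj q z = z := by
  classical
  haveI := Fintype.ofFinite ↥(S : Subgroup G)
  let f : ↥(S : Subgroup G) → Bool × Bool × Bool := fun s =>
    (decide (MulAut.conj (s : G) x = x), decide (MulAut.conj (s : G) y = y), decide (MulAut.conj (s : G) z = z))
  obtain ⟨v, hv⟩ := Fintype.exists_lt_card_fiber_of_mul_lt_card f (n := 4) (by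
    rw [← Nat.card_eq_fintype_card (α := ↥(S : Subgroup G)), h.card_S]; decide)
  obtain ⟨s₀, hs₀⟩ := Finset.card_pos.1 (lt_of_le_of_lt (Nat.zero_le _) hv)
  rw [Finset.mem_filter] at hs₀
  obtain ⟨s, hs, hsA⟩ : ∃ s : ↥(S : Subgroup G), f s = v ∧ (s₀ : G)⁻¹ * s ∉ A := by
    by_contra hno
    push Not at hno
    haveI := Fintype.ofFinite ↥A
    have h1 := Finset.card_le_card_of_injOn
      (fun s : ↥(S : Subgroup G) => if hs : (s₀ : G)⁻¹ * s ∈ A then (⟨_, hs⟩ : ↥A) else 1)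
      (s := Finset.univ.filter fun s => f s = v) (t := Finset.univ) (fun _ _ => Finset.mem_univ _)
      (fun a ha b hb e => by
        simp only [Finset.coe_filter, Finset.mem_univ, true_and, Set.mem_setOf_eq] at ha hb
        simp only [hno a ha, hno b hb, dif_pos, Subtype.mk.injEq, mul_right_inj] at e
        exact Subtype.ext e)
    rw [Finset.card_univ, ← Nat.card_eq_fintype_card, h.card] at h1
    omega
  have key : ∀ w : G, Signed (S : Subgroup G) w →
      decide (MulAut.conj (s : G) w = w) = decide (MulAut.conj (s₀ : G) w = w) →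
      MulAut.conj ((s₀ : G)⁻¹ * s) w = w := by
    intro w hw e
    rw [decide_eq_decide] at e
    have he : MulAut.conj (s : G) w = MulAut.conj (s₀ : G) w := by
      by_cases hf : MulAut.conj (s : G) w = w
      · rw [hf, e.1 hf]
      · rcases hw s s.2 with h1 | h1
        · exact absurd h1 hf
        rcases hw s₀ s₀.2 with h2 | h2
        · exact absurd (e.2 h2) hf
        · rw [h1, h2]
    rw [map_mul, MulAut.mul_apply, he, ← MulAut.mul_apply, ← map_mul, inv_mul_cancel, map_one,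
      MulAut.one_apply]
  have e := hs.trans hs₀.2.symm
  simp only [f, Prod.mk.injEq] at e
  exact ⟨_, mul_mem (inv_mem s₀.2) s.2, hsA, key x hx e.1, key y hy e.2.1, key z hz e.2.2⟩

/-- Conjugation by an odd element outside `O(C(A))` changes the kernel of a signed element. -/
theorem differ_conj [IsSimpleGroup G] (h : Setting S A) {g y : G}
    (hg : g ∈ normalizer ((S : Subgroup G) : Set G)) (hgA : g ∈ centralizer (A : Set G))
    (hgo : Odd (orderOf g)) (hgc : g ∉ coreA A) (hy : y ∈ coreA A) (hy1 : y ≠ 1)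
    (hys : Signed (S : Subgroup G) y) (hyi : ∃ s ∈ (S : Subgroup G), MulAut.conj s y = y⁻¹) :
    Differ (S : Subgroup G) y (MulAut.conj g y) := by
  by_contra hno
  set U : Subgroup ↥(S : Subgroup G) := (centralizer ({y} : Set G)).subgroupOf (S : Subgroup G) with hU
  have hmem : ∀ t : ↥(S : Subgroup G), t ∈ U ↔ MulAut.conj (t : G) y = y := fun t => by
    rw [hU, mem_subgroupOf, mem_centralizer_singleton_iff, MulAut.conj_apply, mul_inv_eq_iff_eq_mul]
  let τ : MulAut ↥(S : Subgroup G) := (S : Subgroup G).normalizerMonoidHom ⟨g, hg⟩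
  have htop : U = ⊤ := by
    refine UFourSylow.eq_top_of_invariant h.usylow (σ := τ) (fun c hc => Subtype.ext ?_) ?_ ?_ ?_ ?_ ?_
    · show g * (c : G) * g⁻¹ = c
      rw [← mem_centralizer_iff.1 hgA c ((h.mem_center_iff c).1 hc), mul_inv_cancel_right]
    · exact hgo.of_dvd_nat ((orderOf_map_dvd _ _).trans (by rw [Subgroup.orderOf_mk]))
    · intro e
      refine hgc (h.mem_coreA_of_centralizes (mem_centralizer_iff.2 fun s hs => ?_) hgo)
      have h1 : g * s * g⁻¹ = s :=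
        congrArg Subtype.val (DFunLike.congr_fun e (⟨s, hs⟩ : ↥(S : Subgroup G)) :)
      exact (mul_inv_eq_iff_eq_mul.1 h1).symm
    · intro c hc
      rw [hmem, MulAut.conj_apply,
        mem_centralizer_iff.1 (coreA_le A hy) c ((h.mem_center_iff c).1 hc), mul_inv_cancel_right]
    · intro e
      obtain ⟨q, hq, hqA, hqy, -, -⟩ := exists_common_fix h hys hys hys
      exact hqA ((h.mem_center_iff ⟨q, hq⟩).1 (e ▸ (hmem ⟨q, hq⟩).2 hqy))
    · intro t ht
      rw [hmem] at ht ⊢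
      have h1 : MulAut.conj (τ t : G) (MulAut.conj g y) = MulAut.conj g y := by
        show MulAut.conj (g * (t : G) * g⁻¹) (MulAut.conj g y) = MulAut.conj g y
        rw [← MulAut.mul_apply, ← map_mul, inv_mul_cancel_right, map_mul, MulAut.mul_apply, ht]
      rcases hys _ (τ t).2 with h2 | h2
      · exact h2
      · exact absurd ⟨_, (τ t).2, Or.inr ⟨h1, h2⟩⟩ hno
  obtain ⟨s, hs, hsy⟩ := hyi
  have h1 := (hmem ⟨s, hs⟩).1 (htop ▸ mem_top _)
  exact hy1 (eq_one_of_eq_inv ((odd_coreA A).of_dvd_nat (Subgroup.orderOf_dvd_natCard _ hy))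
    (h1.symm.trans hsy))

/-- Three commuting independent signed elements give an element against `NoTwoTypes`. -/
theorem false_of_triple [IsSimpleGroup G] (hT : TorusData S A T) (h : Setting S A)
    (hN : NoTwoTypes S A T) {r : ℕ} (hr : r.Prime) (hr2 : Odd r) {y₀ y₁ y₂ : G}
    (h₀ : y₀ ∈ coreA A) (h₁ : y₁ ∈ coreA A) (h₂ : y₂ ∈ coreA A)
    (o₀ : orderOf y₀ = r) (o₁ : orderOf y₁ = r) (o₂ : orderOf y₂ = r)
    (s₀ : Signed (S : Subgroup G) y₀) (s₁ : Signed (S : Subgroup G) y₁) (s₂ : Signed (S : Subgroup G) y₂)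
    (d₀₁ : Differ (S : Subgroup G) y₀ y₁) (d₀₂ : Differ (S : Subgroup G) y₀ y₂)
    (d₁₂ : Differ (S : Subgroup G) y₁ y₂)
    (c₀₁ : Commute y₀ y₁) (c₀₂ : Commute y₀ y₂) (c₁₂ : Commute y₁ y₂) : False := by
  classical
  obtain ⟨q, hq, hqA, q₀, q₁, q₂⟩ := exists_common_fix h s₀ s₁ s₂
  set Y := closure ({y₀, y₁, y₂} : Set G) with hY
  have hYle : ∀ W : Subgroup G, y₀ ∈ W → y₁ ∈ W → y₂ ∈ W → Y ≤ W := fun W w0 w1 w2 =>
    (closure_le _).2 (by rintro w (rfl | rfl | rfl) <;> assumption)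
  have m₀ : y₀ ∈ Y := subset_closure (by simp)
  have m₁ : y₁ ∈ Y := subset_closure (by simp)
  have m₂ : y₂ ∈ Y := subset_closure (by simp)
  have hgen : ∀ w ∈ ({y₀, y₁, y₂} : Set G), Y ≤ centralizer ({w} : Set G) := by
    intro w hw
    refine hYle _ ?_ ?_ ?_ <;> refine mem_centralizer_singleton_iff.2 ?_ <;>
      rcases hw with rfl | rfl | rfl <;>
      first | rfl | exact c₀₁.eq | exact c₀₁.eq.symm | exact c₀₂.eq | exact c₀₂.eq.symm |
        exact c₁₂.eq | exact c₁₂.eq.symm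
  have hYc : ∀ u ∈ Y, ∀ w ∈ Y, u * w = w * u := fun u hu w hw =>
    (mem_centralizer_singleton_iff.1 (hYle (centralizer ({u} : Set G))
      (mem_centralizer_singleton_iff.2 (mem_centralizer_singleton_iff.1 (hgen y₀ (by simp) hu)).symm)
      (mem_centralizer_singleton_iff.2 (mem_centralizer_singleton_iff.1 (hgen y₁ (by simp) hu)).symm)
      (mem_centralizer_singleton_iff.2 (mem_centralizer_singleton_iff.1 (hgen y₂ (by simp) hu)).symm)
      hw)).symm
  haveI : IsMulCommutative ↥Y := ⟨⟨fun u w => Subtype.ext (hYc u u.2 w w.2)⟩⟩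
  have hYcore : Y ≤ coreA A := hYle _ h₀ h₁ h₂
  have hexp : ∀ u ∈ Y, u ^ r = 1 := by
    intro u hu
    have hu' : u ∈ closure ({y₀, y₁, y₂} : Set G) := hu
    induction hu' using closure_induction with
    | mem w hw =>
      rcases hw with rfl | rfl | rfl
      exacts [o₀ ▸ pow_orderOf_eq_one _, o₁ ▸ pow_orderOf_eq_one _, o₂ ▸ pow_orderOf_eq_one _]
    | one => exact one_pow r
    | mul a b ha hb iha ihb =>
      rw [(show Commute a b from hYc a ha b hb).mul_pow, iha ha, ihb hb, one_mul]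
    | inv a ha iha => rw [inv_pow, iha ha, inv_one]
  have hqy : ∀ u ∈ Y, q * u = u * q := by
    have hc : Y ≤ centralizer ({q} : Set G) := by
      refine hYle _ ?_ ?_ ?_ <;> refine mem_centralizer_singleton_iff.2 ?_
      · exact (mul_inv_eq_iff_eq_mul.1 q₀).symm
      · exact (mul_inv_eq_iff_eq_mul.1 q₁).symm
      · exact (mul_inv_eq_iff_eq_mul.1 q₂).symm
    exact fun u hu => (mem_centralizer_singleton_iff.1 (hc hu)).symm
  -- the order of `Y`
  have hcard : r * (r * r) ≤ Nat.card ↥Y := by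
    have hinj : Function.Injective (fun p : Fin r × Fin r × Fin r =>
        (⟨y₀ ^ (p.1 : ℕ) * y₁ ^ (p.2.1 : ℕ) * y₂ ^ (p.2.2 : ℕ),
          mul_mem (mul_mem (pow_mem m₀ _) (pow_mem m₁ _)) (pow_mem m₂ _)⟩ : ↥Y)) := by
      rintro ⟨i, j, k⟩ ⟨i', j', k'⟩ e
      have e0 : y₀ ^ (i : ℕ) * y₁ ^ (j : ℕ) * y₂ ^ (k : ℕ) =
          y₀ ^ (i' : ℕ) * y₁ ^ (j' : ℕ) * y₂ ^ (k' : ℕ) := congrArg Subtype.val e
      set a := y₀ ^ (i : ℕ) * (y₀ ^ (i' : ℕ))⁻¹ with ha
      set b := y₁ ^ (j : ℕ) * (y₁ ^ (j' : ℕ))⁻¹ with hb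
      set c := y₂ ^ (k : ℕ) * (y₂ ^ (k' : ℕ))⁻¹ with hc
      have hp : ∀ {y : G}, orderOf y = r → ∀ m n : ℕ, ∃ l : ℕ, y ^ m * (y ^ n)⁻¹ = y ^ l := by
        intro y ho m n
        refine ⟨m + (r - 1) * n, ?_⟩
        rw [pow_add, mul_right_inj, inv_eq_iff_mul_eq_one, ← pow_add,
          show n + (r - 1) * n = r * n by rw [Nat.sub_mul, one_mul]; have := Nat.le_mul_of_pos_left n hr.pos; omega,
          pow_mul, ← ho, pow_orderOf_eq_one, one_pow]
      obtain ⟨la, hla⟩ := hp o₀ i i'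
      obtain ⟨lb, hlb⟩ := hp o₁ j j'
      obtain ⟨lc, hlc⟩ := hp o₂ k k'
      have habc : a * b * c = 1 := by
        have hca : Commute (y₀ ^ (i' : ℕ))⁻¹ (y₁ ^ (j : ℕ)) := (c₀₁.pow_pow _ _).inv_left
        have hcb : Commute ((y₀ ^ (i' : ℕ))⁻¹ * (y₁ ^ (j' : ℕ))⁻¹) (y₂ ^ (k : ℕ)) :=
          ((c₀₂.pow_pow _ _).inv_left).mul_left ((c₁₂.pow_pow _ _).inv_left)
        calc a * b * c = y₀ ^ (i : ℕ) * ((y₀ ^ (i' : ℕ))⁻¹ * y₁ ^ (j : ℕ)) * (y₁ ^ (j' : ℕ))⁻¹ *
              (y₂ ^ (k : ℕ) * (y₂ ^ (k' : ℕ))⁻¹) := by rw [ha, hb, hc]; group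
          _ = y₀ ^ (i : ℕ) * y₁ ^ (j : ℕ) * (((y₀ ^ (i' : ℕ))⁻¹ * (y₁ ^ (j' : ℕ))⁻¹) * y₂ ^ (k : ℕ)) *
              (y₂ ^ (k' : ℕ))⁻¹ := by rw [hca.eq]; group
          _ = y₀ ^ (i : ℕ) * y₁ ^ (j : ℕ) * y₂ ^ (k : ℕ) *
              (((y₀ ^ (i' : ℕ))⁻¹ * (y₁ ^ (j' : ℕ))⁻¹) * (y₂ ^ (k' : ℕ))⁻¹) := by rw [hcb.eq]; group
          _ = 1 := by
            rw [e0]
            have h1 : Commute ((y₀ ^ (i' : ℕ))⁻¹ * (y₁ ^ (j' : ℕ))⁻¹) (y₂ ^ (k' : ℕ))⁻¹ :=
              (((c₀₂.pow_pow _ _).inv_left).mul_left ((c₁₂.pow_pow _ _).inv_left)).inv_right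
            rw [h1.eq, ((c₀₁.pow_pow (i' : ℕ) (j' : ℕ)).inv_inv).eq]
            group
      rw [ha, hb, hc, hla, hlb, hlc] at habc
      obtain ⟨za, zb, zc⟩ := triple_eq_one (S := (S : Subgroup G)) (s₂.pow lc) (d₀₁.pow la lb) (d₀₂.pow la lc)
        (d₁₂.pow lb lc) ((o₀.symm ▸ hr2 : Odd (orderOf y₀)).of_dvd_nat (orderOf_pow_dvd la))
        ((o₁.symm ▸ hr2 : Odd (orderOf y₁)).of_dvd_nat (orderOf_pow_dvd lb))
        (c₀₁.pow_pow _ _) (c₀₂.pow_pow _ _) (c₁₂.pow_pow _ _) habc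
      have hfin : ∀ {y : G}, orderOf y = r → ∀ m n : Fin r, y ^ (m : ℕ) * (y ^ (n : ℕ))⁻¹ = 1 → m = n :=
        fun {y} ho m n e => Fin.ext (pow_injOn_Iio_orderOf (by simp [ho]) (by simp [ho]) (mul_inv_eq_one.1 e))
      rw [hfin o₀ i i' (hla.trans za), hfin o₁ j j' (hlb.trans zb), hfin o₂ k k' (hlc.trans zc)]
    have := Nat.card_le_card_of_injective _ hinj
    simpa [Nat.card_prod] using this
  -- subgroups of index `r` with fixed points
  have hfix : ∀ v ∈ A, v ≠ 1 → ∃ B ≤ Y, Nat.card ↥Y ≤ Nat.card ↥B * r ∧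
      ∃ t ∈ T v, t ≠ 1 ∧ ∀ u ∈ B, t * u = u * t := by
    intro v hv hv1
    by_contra hno
    push Not at hno
    refine hT.ne v hv hv1 (le_bot_iff.1 (Coprime.le_of_cyclic_quotient
      ((hYcore.trans ((coreA_le A).trans (TorusData.centralizer_A_le hT h hv hv1))).trans
        (hT.normal v hv hv1))
      ((hT.coprime v hv hv1).symm.coprime_dvd_left (card_dvd_of_le hYcore)) fun B hB hcyc => ?_))
    obtain ⟨w, hw, hle⟩ := hcyc
    have hidx : Nat.card ↥Y ≤ Nat.card ↥B * r := by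
      have h1 := Coprime.relIndex_le_of_cyclic_quotient hr hexp hB hw hle
      rw [← Subgroup.card_mul_index (B.subgroupOf Y), Nat.card_congr (subgroupOfEquivOfLe hB).toEquiv]
      exact Nat.mul_le_mul_left _ h1
    intro t ht
    by_contra ht1
    obtain ⟨u, hu, hne⟩ := hno B hB hidx t ht.1 (fun e => ht1 (mem_bot.2 e))
    exact hne (mem_centralizer_iff.1 ht.2 u hu).symm
  obtain ⟨a, ha, ha1⟩ := h.exists_ne_one
  obtain ⟨b, hb, hb1, hab⟩ : ∃ b ∈ A, b ≠ 1 ∧ a ≠ b := by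
    obtain ⟨n', hn', hne⟩ := h.exists_moving ha ha1
    exact ⟨_, h.conj_mem hn' ha, fun e => ha1 (conj_eq_one_iff.1 e), hne.symm⟩
  obtain ⟨B, hB, hBc, t, ht, ht1, htB⟩ := hfix a ha ha1
  obtain ⟨B', hB', hBc', u, hu, hu1, huB⟩ := hfix b hb hb1
  obtain ⟨y, hyB, hyB', hy1⟩ : ∃ y ∈ B, y ∈ B' ∧ y ≠ 1 := by
    by_contra hno
    push Not at hno
    have h1 : Nat.card ↥B * Nat.card ↥B' ≤ Nat.card ↥Y := by
      rw [← Nat.card_prod]
      refine Nat.card_le_card_of_injective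
        (fun p : ↥B × ↥B' => (⟨p.1 * p.2, mul_mem (hB p.1.2) (hB' p.2.2)⟩ : ↥Y)) ?_
      rintro ⟨p, q'⟩ ⟨p', q''⟩ e
      have e' : (p : G) * q' = p' * q'' := congrArg Subtype.val e
      have h2 : (p' : G)⁻¹ * p = q'' * (q' : G)⁻¹ := by
        calc (p' : G)⁻¹ * p = (p' : G)⁻¹ * (p * q') * (q' : G)⁻¹ := by group
          _ = q'' * (q' : G)⁻¹ := by rw [e']; group
      have h3 := hno _ (mul_mem (inv_mem p'.2) p.2) (h2 ▸ mul_mem q''.2 (inv_mem q'.2))
      exact Prod.ext (Subtype.ext (inv_mul_eq_one.1 h3).symm)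
        (Subtype.ext (mul_inv_eq_one.1 (h2.symm.trans h3)).symm)
    have h2 : r * r ≤ Nat.card ↥B := Nat.le_of_mul_le_mul_right (by rw [mul_assoc]; exact hcard.trans hBc) hr.pos
    have h3 : r * r ≤ Nat.card ↥B' := Nat.le_of_mul_le_mul_right (by rw [mul_assoc]; exact hcard.trans hBc') hr.pos
    have h7 := Nat.le_of_mul_le_mul_left (h1.trans hBc) Nat.card_pos
    nlinarith [hr.two_le]
  exact hN y (hYcore (hB hyB)) hy1 q hq hqA (hqy y (hB hyB)) a ha ha1 b hb hb1 hab t ht ht1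
    (htB y hyB) u hu hu1 (huB y hyB')

/-- `S` centralises every `g`-invariant `r`-subgroup of `O(C(A))` it normalises. -/
theorem centralizes_pgroup [IsSimpleGroup G] (hT : TorusData S A T) (h : Setting S A)
    (hN : NoTwoTypes S A T) {g : G} (hg : g ∈ normalizer ((S : Subgroup G) : Set G))
    (hgA : g ∈ centralizer (A : Set G)) (hgo : Odd (orderOf g)) (hgc : g ∉ coreA A) {r : ℕ}
    (hr : r.Prime) : ∀ K : Subgroup G, IsPGroup r ↥K → K ≤ coreA A →
      (S : Subgroup G) ≤ normalizer (K : Set G) → g ∈ normalizer (K : Set G) →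
      ∀ x ∈ K, ∀ s ∈ (S : Subgroup G), MulAut.conj s x = x := by
  haveI := Fact.mk hr
  suffices H : ∀ n : ℕ, ∀ K : Subgroup G, Nat.card ↥K = n → IsPGroup r ↥K → K ≤ coreA A →
      (S : Subgroup G) ≤ normalizer (K : Set G) → g ∈ normalizer (K : Set G) →
      ∀ x ∈ K, ∀ s ∈ (S : Subgroup G), MulAut.conj s x = x from fun K => H _ K rfl
  intro n
  induction n using Nat.strong_induction_on with
  | _ n ih =>
  intro K hn hKp hKc hSK hgK x hx s hs
  by_contra hne
  have hx1 : x ≠ 1 := fun e => hne (by rw [e, map_one])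
  have hK : Odd (Nat.card ↥K) := (odd_coreA A).of_dvd_nat (card_dvd_of_le hKc)
  have hmapK : ∀ m ∈ normalizer (K : Set G), ∀ c ∈ ⁅K, K⁆, m * c * m⁻¹ ∈ ⁅K, K⁆ := by
    intro m hm c hc
    have e : K.map (MulAut.conj m).toMonoidHom = K := mem_normalizer_iff_map_conj_eq.mp hm
    have := mem_map_of_mem (MulAut.conj m).toMonoidHom hc
    rw [map_commutator, e] at this
    exact this
  have hder : ∀ c ∈ ⁅K, K⁆, ∀ t ∈ (S : Subgroup G), MulAut.conj t c = c := by
    have hle : ⁅K, K⁆ ≤ K := commutator_le.2 fun a ha b hb => by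
      rw [commutatorElement_def]
      exact K.mul_mem (K.mul_mem (K.mul_mem ha hb) (K.inv_mem ha)) (K.inv_mem hb)
    have hlt : Nat.card ↥(⁅K, K⁆) < n := by
      rw [← hn]
      refine lt_of_le_of_ne (Subgroup.card_le_of_le hle) fun e => ?_
      have e' : ⁅K, K⁆ = K := Subgroup.eq_of_le_of_card_ge hle e.ge
      haveI := hKp.isNilpotent
      haveI : Nontrivial ↥K := ⟨⟨⟨x, hx⟩, 1, fun e => hx1 (congrArg Subtype.val e)⟩⟩
      refine (Group.IsSolvable.commutator_lt_top_of_nontrivial ↥K).ne ?_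
      refine map_injective K.subtype_injective ?_
      rw [commutator_def, map_commutator, ← MonoidHom.range_eq_map, range_subtype, e']
    exact ih _ hlt _ rfl (hKp.to_le hle) (hle.trans hKc)
      (fun t ht => Coprime.mem_normalizer_of_forall (hmapK t (hSK ht)))
      (Coprime.mem_normalizer_of_forall (hmapK g hgK))
  have hA : ∀ z ∈ K, ∀ c ∈ A, MulAut.conj c z = z := fun z hz c hc => by
    rw [MulAut.conj_apply, mem_centralizer_iff.1 (coreA_le A (hKc hz)) c hc, mul_inv_cancel_right]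
  have hmem : ∀ t ∈ (S : Subgroup G), ∀ z ∈ K, MulAut.conj t z ∈ K := fun t ht z hz =>
    (mem_normalizer_iff.1 (hSK ht) z).1 hz
  have hsq : ∀ t ∈ (S : Subgroup G), ∀ z ∈ K, MulAut.conj t (MulAut.conj t z) = z := fun t ht z hz => by
    rw [← MulAut.mul_apply, ← map_mul, hA z hz _ (h.sq_mem ht)]
  have hcomm : ∀ t ∈ (S : Subgroup G), ∀ t' ∈ (S : Subgroup G), ∀ z ∈ K,
      MulAut.conj t (MulAut.conj t' z) = MulAut.conj t' (MulAut.conj t z) := fun t ht t' ht' z hz => by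
    have hc : t * t' * t⁻¹ * t'⁻¹ ∈ A :=
      (h.mem_center_iff _).1 (h.usylow.shape.commutator_mem ⟨t, ht⟩ ⟨t', ht'⟩)
    have h2 : MulAut.conj t' (MulAut.conj t z) ∈ K := hmem t' ht' _ (hmem t ht z hz)
    have e : t * t' = t * t' * t⁻¹ * t'⁻¹ * (t' * t) := by group
    generalize t * t' * t⁻¹ * t'⁻¹ = c at e hc
    rw [← MulAut.mul_apply, ← map_mul, e, map_mul, MulAut.mul_apply, map_mul, MulAut.mul_apply, hA _ h2 _ hc]
  obtain ⟨y, hy, hy1, hys, si, hsi, hyi⟩ := exists_signed hSK hK hder hsq hcomm hs hx hne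
  obtain ⟨k, hk⟩ := IsPGroup.iff_orderOf.1 hKp ⟨y, hy⟩
  rw [Subgroup.orderOf_mk] at hk
  obtain ⟨k, rfl⟩ : ∃ j, k = j + 1 := ⟨k - 1, by
    rcases k with _ | k
    · exact absurd (orderOf_eq_one_iff.1 (by simpa using hk)) hy1
    · rfl⟩
  set z := y ^ r ^ k with hz
  have hzo : orderOf z = r := by
    rw [hz, orderOf_pow_of_dvd (pow_ne_zero _ hr.ne_zero) (by rw [hk, pow_succ]; exact dvd_mul_right _ _),
      hk, pow_succ, Nat.mul_div_cancel_left _ (pow_pos hr.pos _)]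
  have hzs : Signed (S : Subgroup G) z := hys.pow _
  have hzi : ∃ t ∈ (S : Subgroup G), MulAut.conj t z = z⁻¹ :=
    ⟨si, hsi, by rw [hz, map_pow, hyi, inv_pow]⟩
  have hzK : z ∈ K := pow_mem hy _
  have hr2 : Odd r := by
    refine hK.of_dvd_nat ?_
    rw [← hzo]
    exact Subgroup.orderOf_dvd_natCard _ hzK
  have hconjS : ∀ m ∈ normalizer ((S : Subgroup G) : Set G), ∀ t ∈ (S : Subgroup G), ∀ w : G,
      ∃ t' ∈ (S : Subgroup G), MulAut.conj t (MulAut.conj m w) = MulAut.conj m (MulAut.conj t' w) :=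
    fun m hm t ht w => ⟨m⁻¹ * t * m, by simpa using (mem_normalizer_iff.1 (inv_mem hm) t).1 ht, by
      simp only [MulAut.conj_apply]; group⟩
  have hsigned : ∀ m ∈ normalizer ((S : Subgroup G) : Set G), Signed (S : Subgroup G) (MulAut.conj m z) := by
    intro m hm t ht
    obtain ⟨t', ht', e⟩ := hconjS m hm t ht z
    rcases hzs t' ht' with e' | e'
    · exact Or.inl (by rw [e, e'])
    · exact Or.inr (by rw [e, e', map_inv])
  have hinv : ∀ m ∈ normalizer ((S : Subgroup G) : Set G),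
      ∃ t ∈ (S : Subgroup G), MulAut.conj t (MulAut.conj m z) = (MulAut.conj m z)⁻¹ := by
    intro m hm
    obtain ⟨t, ht, e⟩ := hzi
    refine ⟨m * t * m⁻¹, (mem_normalizer_iff.1 hm t).1 ht, ?_⟩
    rw [← map_inv, ← e]
    simp only [MulAut.conj_apply]
    group
  set z₁ := MulAut.conj g z with hz₁
  set z₂ := MulAut.conj (g * g) z with hz₂
  have hz₁K : z₁ ∈ K := (mem_normalizer_iff.1 hgK z).1 hzK
  have hz₂K : z₂ ∈ K := (mem_normalizer_iff.1 (mul_mem hgK hgK) z).1 hzK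
  have hz1 : z ≠ 1 := fun e => hr.ne_one (by rw [← hzo, e, orderOf_one])
  have hz₁1 : z₁ ≠ 1 := fun e => hz1 ((MulAut.conj g).injective (e.trans (map_one _).symm))
  have hg2o : Odd (orderOf (g * g)) := by
    rw [← pow_two]; exact hgo.of_dvd_nat (orderOf_pow_dvd 2)
  have hg2c : g * g ∉ coreA A := fun e => hgc (by
    obtain ⟨j, hj⟩ := hgo
    have h1 : (g * g) ^ (j + 1) = g := by
      rw [← pow_two, ← pow_mul, show 2 * (j + 1) = orderOf g + 1 by omega, pow_succ, pow_orderOf_eq_one,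
        one_mul]
    exact h1 ▸ pow_mem e _)
  have hd₁ : Differ (S : Subgroup G) z z₁ :=
    differ_conj h hg hgA hgo hgc (hKc hzK) hz1 hzs hzi
  have hd₂ : Differ (S : Subgroup G) z z₂ :=
    differ_conj h (mul_mem hg hg) (mul_mem hgA hgA) hg2o hg2c (hKc hzK) hz1 hzs hzi
  have hzz : MulAut.conj g z₁ = z₂ := by rw [hz₁, hz₂, map_mul, MulAut.mul_apply]
  have hd₁₂ : Differ (S : Subgroup G) z₁ z₂ := by
    rw [← hzz]
    exact differ_conj h hg hgA hgo hgc (hKc hz₁K) hz₁1 (hsigned g hg) (hinv g hg)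
  exact false_of_triple hT h hN hr hr2 (hKc hzK) (hKc hz₁K) (hKc hz₂K) hzo
    ((orderOf_injective (MulAut.conj g).toMonoidHom (MulAut.conj g).injective z).trans hzo)
    ((orderOf_injective (MulAut.conj (g * g)).toMonoidHom (MulAut.conj (g * g)).injective z).trans hzo)
    hzs (hsigned g hg) (hsigned _ (mul_mem hg hg)) hd₁ hd₂ hd₁₂
    (comm_of_differ hK hder hzK hz₁K hd₁ (hinv g hg) hzi)
    (comm_of_differ hK hder hzK hz₂K hd₂ (hinv _ (mul_mem hg hg)) hzi)
    (comm_of_differ hK hder hz₁K hz₂K hd₁₂ (hinv _ (mul_mem hg hg)) (hinv g hg))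

/-- An element with central square on an odd `D` centralising all parts centralises `D`. -/
theorem centralizes_of_sq {D : Subgroup G} (hD : Odd (Nat.card D)) {s : G}
    (hsD : s ∈ normalizer (D : Set G)) (hsq : ∀ d ∈ D, MulAut.conj s (MulAut.conj s d) = d)
    (h : ∀ r : ℕ, r.Prime → ∀ y ∈ part D r, s * y = y * s) {d : G} (hd : d ∈ D) :
    s * d = d * s := by
  haveI := OddOrderTheorem.solvable hD
  have hd' : s * d * s⁻¹ ∈ D := (mem_normalizer_iff.1 hsD d).1 hd
  set F := (Cfsg.fittingSubgroup ↥D).map D.subtype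
  have hFD : F ≤ D := map_subtype_le _
  have hsF : ∀ y ∈ F, MulAut.conj s y = y := fun y hy => by
    rw [MulAut.conj_apply, centralizes_fitting h y hy, mul_inv_cancel_right]
  set c := s * d * s⁻¹ * d⁻¹ with hc
  have hcF : c ∈ F := by
    refine ⟨⟨_, D.mul_mem hd' (D.inv_mem hd)⟩, Solvable.centralizer_fitting_le ↥D
      (mem_centralizer_iff.2 fun y hy => Subtype.ext ?_), rfl⟩
    haveI : (Cfsg.fittingSubgroup ↥D).Normal := Subgroup.sSup_normal _ fun _ h => h.1
    have hyF : (y : G) ∈ F := ⟨y, hy, rfl⟩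
    have hzF : d⁻¹ * (y : G) * d ∈ F := ⟨(⟨d, hd⟩ : ↥D)⁻¹ * y * ⟨d, hd⟩, by
      simpa using (inferInstance : (Cfsg.fittingSubgroup ↥D).Normal).conj_mem y hy (⟨d, hd⟩ : ↥D)⁻¹, rfl⟩
    have e := hsF _ hzF
    rw [map_mul, map_mul, map_inv, hsF _ hyF, MulAut.conj_apply] at e
    show (y : G) * c = c * (y : G)
    calc (y : G) * c = (s * d * s⁻¹) * ((s * d * s⁻¹)⁻¹ * (y : G) * (s * d * s⁻¹)) * d⁻¹ := by rw [hc]; group
      _ = c * (y : G) := by rw [e, hc]; group
  have hd2 : MulAut.conj s d = c * d := by rw [MulAut.conj_apply, hc]; group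
  have h2 := hsq d hd
  rw [hd2, map_mul, hsF c hcF, hd2, ← mul_assoc, mul_eq_right] at h2
  have h1 : c = 1 := eq_one_of_eq_inv (hD.of_dvd_nat (Subgroup.orderOf_dvd_natCard _ (hFD hcF)))
    (mul_eq_one_iff_eq_inv.1 h2)
  exact mul_inv_eq_iff_eq_mul.1 (mul_inv_eq_one.1 (hc ▸ h1))

end Cfsg.Agent.Goldschmidt.ThreeInv.CoreCent

namespace Cfsg.Agent.Goldschmidt.ThreeInv

open Subgroup

universe u

/-- Section 2 (d). -/
theorem coreCentTarget : CoreCentTarget.{u} := by
  intro G _ _ S A T h hT hN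
  haveI := h.simple
  have hs := h.setting
  obtain ⟨g, hg, hgA, hgo, hgc⟩ := CoreCent.exists_odd_outside hT hs
  have hnorm : centralizer (A : Set G) ≤ normalizer (coreA A : Set G) := fun c hc =>
    mem_normalizer_fintype fun y hy => conj_mem_coreA hc hy
  refine fun d hd => mem_centralizer_iff.2 fun s hsS => ?_
  refine CoreCent.centralizes_of_sq (odd_coreA A) (hnorm (hs.central hsS)) (fun x hx => ?_)
    (fun r hr y hy => ?_) hd
  · rw [← MulAut.mul_apply, ← map_mul, MulAut.conj_apply,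
      mem_centralizer_iff.1 (coreA_le A hx) _ (hs.sq_mem hsS), mul_inv_cancel_right]
  · exact mul_inv_eq_iff_eq_mul.1 (CoreCent.centralizes_pgroup hT hs hN hg hgA hgo hgc hr _
      (part_isPGroup _ r) (part_le _ r) ((hs.central.trans hnorm).trans (normalizer_le_part _ r))
      (normalizer_le_part _ r (hnorm hgA)) y hy s hsS)

end Cfsg.Agent.Goldschmidt.ThreeInv
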