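import Cfsg.Agent.EqLemmas
import Cfsg.Agent.Lib.Goldschmidt.ThreeInv.Cent.Parts
import Cfsg.Agent.Lib.Goldschmidt.ThreeInv.Proper
import Cfsg.Agent.Lib.Involution.StronglyEmbedded
import Cfsg.Agent.Lib.Constrained.Basic

/-!
# Three involutions, section 2 (a): `C(a)` is maximal (owner: helper63)

* `Hyp.isolated_of_centralizer_le` : a proper subgroup above `C(a)` does not fuse `a` in `A`
* `Hyp.exists_core_factor` : so it is `O(M) C(a)`, with `a` central modulo `O(M)`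
* `TorusData.maximal` : it equals `C(a)`
-/

set_option autoImplicit false
set_option linter.style.haveILetI false
set_option linter.unusedSectionVars false

namespace Cfsg.Agent.Goldschmidt.ThreeInv

open Subgroup

universe u

variable {G : Type u} [Group G] [Finite G] {S : Sylow 2 G} {A : Subgroup G}

namespace Setting

variable (h : Setting S A)

include h

/-- An element of `N(S)` moving `a` fixes no involution of `A` and permutes them cyclically. -/
theorem cycle_of_moving {a : G} (ha : a ∈ A) (ha1 : a ≠ 1) {n : G}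
    (hn : n ∈ normalizer ((S : Subgroup G) : Set G)) (hna : n * a * n⁻¹ ≠ a) :
    n * (n * a * n⁻¹) * n⁻¹ ≠ a ∧ n * (n * a * n⁻¹) * n⁻¹ ≠ n * a * n⁻¹ ∧
      ∀ z ∈ A, z ≠ 1 → z = a ∨ z = n * a * n⁻¹ ∨ z = n * (n * a * n⁻¹) * n⁻¹ := by
  haveI : Fact (Nat.Prime 2) := ⟨Nat.prime_two⟩
  have hb := h.conj_mem hn ha
  have hb1 : n * a * n⁻¹ ≠ 1 := fun e => ha1 (conj_eq_one_iff.1 e)
  have h2a : n * (n * a * n⁻¹) * n⁻¹ ≠ a := by
    intro e
    set N := normalizer ((S : Subgroup G) : Set G)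
    haveI : ((S : Subgroup G).subgroupOf N).Normal := Subgroup.normal_in_normalizer
    obtain ⟨k, hk⟩ : Odd ((S : Subgroup G).subgroupOf N).index := Nat.not_even_iff_odd.1 fun he =>
      S.not_dvd_index ((even_iff_two_dvd.1 he).trans (Subgroup.relIndex_dvd_index_of_le le_normalizer))
    have hmS : n ^ (2 * k + 1) ∈ (S : Subgroup G) := hk ▸
      mem_subgroupOf.1 (Subgroup.pow_index_mem ((S : Subgroup G).subgroupOf N) (⟨n, hn⟩ : N))
    have hsq : ∀ j : ℕ, n ^ (2 * j) * a * (n ^ (2 * j))⁻¹ = a := fun j => by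
      induction j with
      | zero => simp
      | succ j ih =>
        rw [show n ^ (2 * (j + 1)) = n * (n * n ^ (2 * j)) by rw [← pow_succ', ← pow_succ']; rfl]
        calc n * (n * n ^ (2 * j)) * a * (n * (n * n ^ (2 * j)))⁻¹
            = n * (n * (n ^ (2 * j) * a * (n ^ (2 * j))⁻¹) * n⁻¹) * n⁻¹ := by group
          _ = a := by rw [ih, e]
    refine hna ?_
    have hfix : n ^ (2 * k + 1) * a * (n ^ (2 * k + 1))⁻¹ = a := by
      rw [← h.commute ha hmS, mul_inv_cancel_right]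
    rw [pow_succ'] at hfix
    rwa [show n * n ^ (2 * k) * a * (n * n ^ (2 * k))⁻¹ =
      n * (n ^ (2 * k) * a * (n ^ (2 * k))⁻¹) * n⁻¹ by group, hsq] at hfix
  have hne : n * (n * a * n⁻¹) * n⁻¹ ≠ n * a * n⁻¹ := fun e => hna (mul_left_cancel (mul_right_cancel e))
  exact ⟨h2a, hne, fun z hz hz1 => h.eq_or_eq_or_eq ha hb (h.conj_mem hn hb) ha1 hb1
    (fun e => hb1 (conj_eq_one_iff.1 e)) (Ne.symm hna) (Ne.symm hne) (Ne.symm h2a) hz hz1⟩

/-- If `M ≥ S` moves `a` inside `A` then so does `N(S) ∩ M` (Burnside). -/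
theorem exists_moving_mem {M : Subgroup G} {a : G} (ha : a ∈ A) (hSM : (S : Subgroup G) ≤ M) {m : G}
    (hm : m ∈ M) (hmA : m * a * m⁻¹ ∈ A) (hne : m * a * m⁻¹ ≠ a) :
    ∃ n ∈ normalizer ((S : Subgroup G) : Set G), n ∈ M ∧ n * a * n⁻¹ ≠ a := by
  haveI : Fact (Nat.Prime 2) := ⟨Nat.prime_two⟩
  have hs := h
  set SM : Sylow 2 ↥M := S.subtype hSM
  have hinv : ∀ u : ↥M, (u : G) ∈ A → ∀ x ∈ (SM : Subgroup ↥M), (fun y => x * y * x⁻¹) '' {u} = {u} :=
    fun u hu x hx => by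
      rw [Set.image_singleton, show x * u = u * x from Subtype.ext (hs.commute hu (mem_subgroupOf.1 hx)).symm,
        mul_inv_cancel_right]
  obtain ⟨n, hn, hnz⟩ := Transfer.exists_normalizer_conj_image SM
    (X := {(⟨a, hSM (hs.le ha)⟩ : ↥M)}) (Y := {⟨m * a * m⁻¹, hSM (hs.le hmA)⟩})
    (hinv _ ha) (hinv _ hmA) (g := ⟨m, hm⟩) (by rw [Set.image_singleton]; rfl)
  rw [Set.image_singleton, Set.singleton_eq_singleton_iff] at hnz
  refine ⟨n, mem_normalizer_fintype fun s hs' =>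
    mem_subgroupOf.1 ((mem_normalizer_iff.1 hn ⟨s, hSM hs'⟩).1 (mem_subgroupOf.2 hs')), n.2, ?_⟩
  rw [show (n : G) * a * (n : G)⁻¹ = m * a * m⁻¹ from congrArg Subtype.val hnz]
  exact hne

/-- If `a` is isolated in `M ≥ S` then `M = O(M) C_M(a)` and `a` is central modulo `O(M)`. -/
theorem core_factor {M : Subgroup G} {a : G} (ha : a ∈ A) (ha1 : a ≠ 1) (hSM : (S : Subgroup G) ≤ M)
    (hiso : ∀ g ∈ M, g * a * g⁻¹ ∈ A → g * a * g⁻¹ = a) :
    (∀ m ∈ M, a * m * a⁻¹ * m⁻¹ ∈ (Cfsg.oddCore ↥M).map M.subtype) ∧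
      ∀ m ∈ M, ∃ d ∈ (Cfsg.oddCore ↥M).map M.subtype, ∃ c ∈ centralizer ({a} : Set G), m = d * c := by
  haveI : Fact (Nat.Prime 2) := ⟨Nat.prime_two⟩
  have hs := h
  set a' : ↥M := ⟨a, hSM (hs.le ha)⟩
  have ha2 : orderOf a' = 2 := by
    rw [Subgroup.orderOf_mk]; exact orderOf_eq_prime (by rw [pow_two, hs.sq ha]) ha1
  obtain ⟨N, hN, hNo, hNz⟩ := S0215.result (S.subtype hSM) a' ha2 (mem_subgroupOf.2 (hs.le ha))
    fun g hg => Subtype.ext (hiso g g.2
      ((hs.mem _ (mem_subgroupOf.1 hg)).1 (by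
        show (g : G) * a * (g : G)⁻¹ * ((g : G) * a * (g : G)⁻¹) = 1
        rw [show (g : G) * a * (g : G)⁻¹ * ((g : G) * a * (g : G)⁻¹) = (g : G) * (a * a) * (g : G)⁻¹ by group,
          hs.sq ha]
        group)))
  have hle : N ≤ Cfsg.oddCore ↥M := Cores.le_pPrimeCore hN (Nat.coprime_two_right.2 hNo)
  refine ⟨fun m hm => ⟨_, hle (hNz ⟨m, hm⟩), rfl⟩, fun m hm => ?_⟩
  obtain ⟨o, ho, hoc⟩ := Constrained.exists_mul_mem_centralizer (p := 2) (O := Cfsg.oddCore ↥M)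
    (T := zpowers a') (fun h2 => Nat.not_even_iff_odd.2
      (Nat.coprime_two_right.1 (Cores.coprime_card_pPrimeCore 2)) (even_iff_two_dvd.2 h2))
    (IsPGroup.of_card (n := 1) (by rw [Nat.card_zpowers, ha2, pow_one])) (x := ⟨m, hm⟩) fun v hv => by
      rw [← QuotientGroup.eq_one_iff]
      set q := QuotientGroup.mk' (Cfsg.oddCore ↥M)
      show q (⟨m, hm⟩ * v * ⟨m, hm⟩⁻¹ * v⁻¹) = 1
      obtain ⟨j, rfl⟩ := mem_zpowers_iff.1 hv
      have h1 : Commute (q a') (q ⟨m, hm⟩) := by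
        have := (QuotientGroup.eq_one_iff _).2 (hle (hNz ⟨m, hm⟩))
        rw [← QuotientGroup.mk'_apply, map_mul, map_mul, map_mul, map_inv, map_inv] at this
        exact mul_inv_eq_iff_eq_mul.1 (mul_inv_eq_one.1 this)
      simp only [map_mul, map_inv, map_zpow]
      rw [((h1.zpow_left j).symm).eq, mul_inv_cancel_right, mul_inv_cancel]
  refine ⟨(o⁻¹ : ↥M), ⟨o⁻¹, inv_mem ho, rfl⟩, ((o * ⟨m, hm⟩ : ↥M) : G), mem_centralizer_singleton_iff.2
    (congrArg Subtype.val (mem_centralizer_iff.1 hoc a' (mem_zpowers a'))).symm, ?_⟩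
  show m = (o : G)⁻¹ * ((o : G) * m)
  group

/-- A non-trivial 2-subgroup of `S` contains an involution of `A`. -/
theorem exists_mem_inf {X : Subgroup G} (hX : X ≤ (S : Subgroup G)) (hX1 : X ≠ ⊥) :
    ∃ z ∈ X, z ∈ A ∧ z ≠ 1 := by
  haveI : Fact (Nat.Prime 2) := ⟨Nat.prime_two⟩
  obtain ⟨n, hn⟩ := IsPGroup.iff_card.1 (S.2.to_le hX)
  obtain ⟨x, hx⟩ := exists_prime_orderOf_dvd_card' (G := ↥X) 2 (hn ▸ dvd_pow_self 2 fun e => hX1
    (Subgroup.card_eq_one.1 (by rw [hn, e, pow_zero])))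
  refine ⟨x, x.2, (h.mem x (hX x.2)).1 ?_, fun e => ?_⟩
  · rw [← pow_two, ← orderOf_submonoid] at *
    exact orderOf_dvd_iff_pow_eq_one.1 hx.dvd
  · rw [← orderOf_submonoid, e, orderOf_one] at hx
    omega

end Setting

/-- In a counterexample a proper subgroup above `C(a)` does not move `a` inside `A`. -/
theorem Hyp.isolated_of_centralizer_le (h : Hyp S A) {a : G} (ha : a ∈ A) (ha1 : a ≠ 1) {M : Subgroup G}
    (hM : M ≠ ⊤) (hCM : centralizer ({a} : Set G) ≤ M) {m : G} (hm : m ∈ M) (hmA : m * a * m⁻¹ ∈ A) :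
    m * a * m⁻¹ = a := by
  by_contra hne
  haveI : Fact (Nat.Prime 2) := ⟨Nat.prime_two⟩
  have hs := h.setting
  have hSC : (S : Subgroup G) ≤ centralizer ({a} : Set G) := fun s hs' =>
    mem_centralizer_singleton_iff.2 (hs.commute ha hs').symm
  have hSM : (S : Subgroup G) ≤ M := hSC.trans hCM
  set SM : Sylow 2 ↥M := S.subtype hSM
  obtain ⟨n, hnN, hnM, hna⟩ := hs.exists_moving_mem ha hSM hm hmA hne
  obtain ⟨-, -, hall⟩ := hs.cycle_of_moving ha ha1 hnN hna
  have hconj : ∀ z : G, centralizer ({z} : Set G) ≤ M → centralizer ({n * z * n⁻¹} : Set G) ≤ M := fun z hz c hc => by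
    have h1 : n⁻¹ * c * n ∈ M := hz (mem_centralizer_singleton_iff.2 (by
      calc n⁻¹ * c * n * z = n⁻¹ * (c * (n * z * n⁻¹)) * n := by group
        _ = z * (n⁻¹ * c * n) := by rw [mem_centralizer_singleton_iff.1 hc]; group))
    rw [show c = n * (n⁻¹ * c * n) * n⁻¹ by group]
    exact M.mul_mem (M.mul_mem hnM h1) (M.inv_mem hnM)
  have hC : ∀ z ∈ A, z ≠ 1 → centralizer ({z} : Set G) ≤ M := fun z hz hz1 => by
    rcases hall z hz hz1 with rfl | rfl | rfl
    · exact hCM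
    · exact hconj _ hCM
    · exact hconj _ (hconj _ hCM)
  have hmove : ∀ z ∈ A, z ≠ 1 → ∃ k ∈ M, k * a * k⁻¹ = z := fun z hz hz1 => by
    rcases hall z hz hz1 with rfl | rfl | rfl
    · exact ⟨1, M.one_mem, by group⟩
    · exact ⟨n, hnM, rfl⟩
    · exact ⟨n * n, M.mul_mem hnM hnM, by group⟩
  refine h.not_se ⟨M, Involution.isStronglyEmbedded_of_normalizers hM ?_ fun X hXM hX hX1 => ?_⟩
  · refine even_iff_two_dvd.2 ((?_ : 2 ∣ orderOf a).trans (Subgroup.orderOf_dvd_natCard _ (hSM (hs.le ha))))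
    rw [orderOf_eq_prime (by rw [pow_two, hs.sq ha]) ha1]
  -- move `X` into `S`
  obtain ⟨u, hu⟩ := PiClassCount.exists_conj_mem_sylow SM (hX.of_equiv (subgroupOfEquivOfLe hXM).symm)
  intro g hg
  set X' := X.map (MulAut.conj (u : G)).toMonoidHom with hX'
  have hX'S : X' ≤ (S : Subgroup G) := by
    rintro _ ⟨x, hx, rfl⟩
    exact mem_subgroupOf.1 (hu ⟨x, hXM hx⟩ (mem_subgroupOf.2 hx))
  have hX'1 : X' ≠ ⊥ := fun e => hX1
    ((Subgroup.map_eq_bot_iff_of_injective _ (MulAut.conj (u : G)).injective).1 e)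
  obtain ⟨z, hzX, hzA, hz1⟩ := hs.exists_mem_inf hX'S hX'1
  obtain ⟨x, hx, rfl⟩ := hzX
  set g' := (u : G) * g * (u : G)⁻¹ with hg'
  have hz'X : g' * ((u : G) * x * (u : G)⁻¹) * g'⁻¹ ∈ X' :=
    ⟨g * x * g⁻¹, (mem_normalizer_iff.1 hg x).1 hx, by
      show (u : G) * (g * x * g⁻¹) * (u : G)⁻¹ = _
      rw [hg']; group⟩
  have hzA' : (u : G) * x * (u : G)⁻¹ ∈ A := hzA
  have hz'A : g' * ((u : G) * x * (u : G)⁻¹) * g'⁻¹ ∈ A := (hs.mem _ (hX'S hz'X)).1 (by
    rw [show g' * ((u : G) * x * (u : G)⁻¹) * g'⁻¹ * (g' * ((u : G) * x * (u : G)⁻¹) * g'⁻¹) =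
      g' * (((u : G) * x * (u : G)⁻¹) * ((u : G) * x * (u : G)⁻¹)) * g'⁻¹ by group, hs.sq hzA']
    group)
  have hz' : g' * ((u : G) * x * (u : G)⁻¹) * g'⁻¹ ≠ 1 := fun e => hz1 (conj_eq_one_iff.1 e)
  obtain ⟨k, hk, hka⟩ := hmove _ hzA' (fun e => hz1 e)
  obtain ⟨l, hl, hla⟩ := hmove _ hz'A hz'
  have hmem : l⁻¹ * g' * k ∈ M := hCM (mem_centralizer_singleton_iff.2 (mul_inv_eq_iff_eq_mul.1 (by
    calc l⁻¹ * g' * k * a * (l⁻¹ * g' * k)⁻¹ = l⁻¹ * (g' * (k * a * k⁻¹) * g'⁻¹) * l := by group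
      _ = a := by rw [hka, ← hla]; group)))
  have hg'M : g' ∈ M := by
    rw [show g' = l * (l⁻¹ * g' * k) * k⁻¹ by group]
    exact M.mul_mem (M.mul_mem hl hmem) (M.inv_mem hk)
  rw [show g = (u : G)⁻¹ * g' * u by rw [hg']; group]
  exact M.mul_mem (M.mul_mem (M.inv_mem u.2) hg'M) u.2

/-- So `M = O(M) C(a)` and `a` is central modulo `O(M)`. -/
theorem Hyp.exists_core_factor (h : Hyp S A) {a : G} (ha : a ∈ A) (ha1 : a ≠ 1) {M : Subgroup G}
    (hM : M ≠ ⊤) (hCM : centralizer ({a} : Set G) ≤ M) :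
    (∀ m ∈ M, a * m * a⁻¹ * m⁻¹ ∈ (Cfsg.oddCore ↥M).map M.subtype) ∧
      ∀ m ∈ M, ∃ d ∈ (Cfsg.oddCore ↥M).map M.subtype, ∃ c ∈ centralizer ({a} : Set G), m = d * c := by
  haveI : Fact (Nat.Prime 2) := ⟨Nat.prime_two⟩
  have hs := h.setting
  have hSC : (S : Subgroup G) ≤ centralizer ({a} : Set G) := fun s hs' =>
    mem_centralizer_singleton_iff.2 (hs.commute ha hs').symm
  have hSM : (S : Subgroup G) ≤ M := hSC.trans hCM
  exact hs.core_factor ha ha1 hSM fun g hg hgA => h.isolated_of_centralizer_le ha ha1 hM hCM hg hgA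

namespace TorusData

variable {T : G → Subgroup G}

/-- `T a` lies in `O(M)` when another involution of `A` is central modulo `O(M)`. -/
theorem mem_core_of_inverts (hT : TorusData S A T) (h : Hyp S A) {a v : G} (ha : a ∈ A) (ha1 : a ≠ 1)
    (hv : v ∈ A) (hv1 : v ≠ 1) (hva : v ≠ a) {M : Subgroup G} (hM : M ≠ ⊤)
    (hCa : centralizer ({a} : Set G) ≤ M) (hCv : centralizer ({v} : Set G) ≤ M) {t : G} (ht : t ∈ T a) :
    t ∈ (Cfsg.oddCore ↥M).map M.subtype := by
  have h1 := (h.exists_core_factor hv hv1 hM hCv).1 t (hCa (hT.le a ha ha1 ht))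
  rw [hT.inverts a ha ha1 v hv hv1 hva t ht] at h1
  obtain ⟨k, hk⟩ := (hT.odd a ha ha1).of_dvd_nat (Subgroup.orderOf_dvd_natCard _ ht)
  have h3 : (t⁻¹ * t⁻¹) ^ k = t := by
    rw [← mul_inv_rev, inv_pow, ← pow_two, ← pow_mul]
    refine inv_eq_of_mul_eq_one_right ?_
    rw [← pow_succ, ← hk, pow_orderOf_eq_one]
  exact h3 ▸ pow_mem h1 k

/-- `C(a)` is a maximal subgroup. -/
theorem maximal (hT : TorusData S A T) (h : Hyp S A) {a : G} (ha : a ∈ A) (ha1 : a ≠ 1) {M : Subgroup G}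
    (hM : M ≠ ⊤) (hCM : centralizer ({a} : Set G) ≤ M) : M = centralizer ({a} : Set G) := by
  haveI := h.simple
  have hs := h.setting
  refine le_antisymm ?_ hCM
  set D := (Cfsg.oddCore ↥M).map M.subtype with hDdef
  have hDM : D ≤ M := map_subtype_le _
  have hDodd : Odd (Nat.card D) := by
    rw [hDdef, card_map_of_injective M.subtype_injective]
    exact Nat.coprime_two_right.1 (Cores.coprime_card_pPrimeCore 2)
  have hMD : M ≤ normalizer (D : Set G) := fun g hg => mem_normalizer_fintype fun x hx => by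
    obtain ⟨r, hr, rfl⟩ := hx
    exact ⟨⟨g, hg⟩ * r * ⟨g, hg⟩⁻¹, (inferInstance : (Cfsg.oddCore ↥M).Normal).conj_mem r hr _, rfl⟩
  have hCA : centralizer (A : Set G) ≤ centralizer ({a} : Set G) := centralizer_A_le hT hs ha ha1
  have hSM : (S : Subgroup G) ≤ M := (hs.central.trans hCA).trans hCM
  by_cases hall : ∀ r : ℕ, r.Prime → part D r ≤ centralizer ({a} : Set G)
  · intro m hm
    obtain ⟨d, hd, c, hc, rfl⟩ := (h.exists_core_factor ha ha1 hM hCM).2 m hm
    refine mul_mem (mem_centralizer_singleton_iff.2 (centralizes_of_parts hDodd (hs.sq ha)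
      (hMD (hSM (hs.le ha))) (fun r hr y hy => (mem_centralizer_singleton_iff.1 (hall r hr hy)).symm) hd).symm) hc
  exfalso
  push Not at hall
  obtain ⟨r, hr, hra⟩ := hall
  haveI := Fact.mk hr
  have hMR : M ≤ normalizer (part D r : Set G) := hMD.trans (normalizer_le_part D r)
  have hrodd : r ≠ 2 := by
    rintro rfl
    refine hra fun x hx => ?_
    obtain ⟨j, hj⟩ := IsPGroup.iff_orderOf.1 (part_isPGroup D 2) ⟨x, hx⟩
    rw [Subgroup.orderOf_mk] at hj
    have hx1 : orderOf x = 1 := Nat.eq_one_of_dvd_coprimes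
      ((Nat.coprime_two_right.2 hDodd).pow_right j) (Subgroup.orderOf_dvd_natCard _ (part_le D 2 hx)) hj.dvd
    rw [orderOf_eq_one_iff.1 hx1]
    exact one_mem _
  rcases hT.types r (part D r) hr hrodd (part_isPGroup D r) (hSM.trans hMR) with hA' | ⟨v, hv, hv1, hRv⟩
  · exact hra (hA'.trans hCA)
  have hva : v ≠ a := fun e => hra (e ▸ hRv.trans (hT.le v hv hv1))
  set M' := normalizer (part D r : Set G) with hM'
  have hR1 : part D r ≠ ⊥ := fun e => hra (e ▸ bot_le)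
  have hM'top : M' ≠ ⊤ := by
    intro e
    rcases (normalizer_eq_top_iff.1 e).eq_bot_or_eq_top with e' | e'
    · exact hR1 e'
    · exact hs.not_comm ⟨⟨fun x y => congrArg Subtype.val ((hT.comm v hv hv1).is_comm.comm
        (⟨x, hRv (e' ▸ mem_top x)⟩ : ↥(T v)) ⟨y, hRv (e' ▸ mem_top y)⟩)⟩⟩
  have hCv : centralizer ({v} : Set G) ≤ M' := (hT.gen v hv hv1).trans (sup_le (fun t ht =>
    centralizer_le_normalizer _ (mem_centralizer_iff.2 fun x hx => congrArg Subtype.val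
      ((hT.comm v hv hv1).is_comm.comm (⟨x, hRv hx⟩ : ↥(T v)) ⟨t, ht⟩))) ((hCA.trans hCM).trans hMR))
  have hCa : centralizer ({a} : Set G) ≤ M' := hCM.trans hMR
  set D' := (Cfsg.oddCore ↥M').map M'.subtype with hD'def
  have hD'odd : Odd (Nat.card D') := by
    rw [hD'def, card_map_of_injective M'.subtype_injective]
    exact Nat.coprime_two_right.1 (Cores.coprime_card_pPrimeCore 2)
  have hM'D : M' ≤ normalizer (D' : Set G) := fun g hg => mem_normalizer_fintype fun x hx => by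
    obtain ⟨q, hq, rfl⟩ := hx
    exact ⟨⟨g, hg⟩ * q * ⟨g, hg⟩⁻¹, (inferInstance : (Cfsg.oddCore ↥M').Normal).conj_mem q hq _, rfl⟩
  have hTa : T a ≤ D' := fun t ht => mem_core_of_inverts hT h ha ha1 hv hv1 hva hM'top hCa hCv ht
  have hTv : T v ≤ D' := fun t ht =>
    mem_core_of_inverts hT h hv hv1 ha ha1 (Ne.symm hva) hM'top hCv hCa ht
  -- elements of `T a` centralise every part
  have hkey : ∀ z ∈ A, z ≠ 1 → T z ≤ D' → ∀ t ∈ T z, ∀ q : ℕ, q.Prime → ∀ x ∈ part D' q, t * x = x * t := by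
    intro z hz hz1 hTz t ht q hq x hx
    haveI := Fact.mk hq
    have hSq : (S : Subgroup G) ≤ normalizer (part D' q : Set G) :=
      (((hs.central.trans hCA).trans hCa).trans hM'D).trans (normalizer_le_part D' q)
    have htn : t ∈ normalizer (part D' q : Set G) := normalizer_le_part D' q (le_normalizer (hTz ht))
    have hq2 : q ≠ 2 ∨ x = 1 := by
      by_cases h2 : q = 2
      · right
        subst h2
        obtain ⟨j, hj⟩ := IsPGroup.iff_orderOf.1 (part_isPGroup D' 2) ⟨x, hx⟩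
        rw [Subgroup.orderOf_mk] at hj
        exact orderOf_eq_one_iff.1 (Nat.eq_one_of_dvd_coprimes
          ((Nat.coprime_two_right.2 hD'odd).pow_right j) (Subgroup.orderOf_dvd_natCard _ (part_le D' 2 hx)) hj.dvd)
      · exact Or.inl h2
    rcases hq2 with hq2 | rfl
    swap
    · rw [one_mul, mul_one]
    rcases hT.types q (part D' q) hq hq2 (part_isPGroup D' q) hSq with hc | ⟨w, hw, hw1, hcw⟩
    · have hxC := hc hx
      have h1 : t * x * t⁻¹ * x⁻¹ ∈ T z ⊓ centralizer (A : Set G) := by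
        refine ⟨?_, hc (mul_mem ((mem_normalizer_iff.1 htn x).1 hx) (inv_mem hx))⟩
        rw [show t * x * t⁻¹ * x⁻¹ = t * (x * t⁻¹ * x⁻¹) by group]
        exact mul_mem ht ((mem_normalizer_iff.1 (hT.normal z hz hz1 (centralizer_A_le hT hs hz hz1 hxC)) _).1 (inv_mem ht))
      rw [inf_eq_bot hT hs hz hz1, mem_bot] at h1
      exact mul_inv_eq_iff_eq_mul.1 (mul_inv_eq_one.1 h1)
    · by_cases hwa : w = z
      · subst hwa
        exact congrArg Subtype.val ((hT.comm w hw hw1).is_comm.comm (⟨t, ht⟩ : ↥(T w)) ⟨x, hcw hx⟩)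
      · exact hT.commute_of_inverted hz hz1 hw hw1 hwa ht
          (mem_centralizer_singleton_iff.1 (hT.le w hw hw1 (hcw hx))).symm
          (mem_centralizer_singleton_iff.1 (hT.le w hw hw1 (hcw ((mem_normalizer_iff.1 htn x).1 hx)))).symm
  have hcomm : ∀ t ∈ T a, ∀ u ∈ T v, t * u = u * t := by
    intro t ht u hu
    -- `T a` lies in the join of the parts, so by symmetry it centralises `T v`
    have hsup : t ∈ ⨆ q : Nat.Primes, part D' q :=
      mem_of_centralizes_parts hD'odd (hTa ht) (fun q hq x hx => hkey a ha ha1 hTa t ht q hq x hx)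
        fun q hq => le_iSup (fun q : Nat.Primes => part D' q) ⟨q, hq⟩
    have hu' : ∀ q : ℕ, q.Prime → part D' q ≤ centralizer ({u} : Set G) := fun q hq x hx =>
      mem_centralizer_singleton_iff.2 (hkey v hv hv1 hTv u hu q hq x hx).symm
    exact mem_centralizer_singleton_iff.1 ((iSup_le fun q : Nat.Primes => hu' q q.2) hsup)
  -- all three commute
  obtain ⟨n, hnS, hnv⟩ := hs.fused ha ha1 hv hv1
  have hnN : n ∈ normalizer ((S : Subgroup G) : Set G) := mem_normalizer_fintype hnS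
  have hnA : n ∈ normalizer (A : Set G) := mem_normalizer_fintype fun z hz => hs.conj_mem hnN hz
  have hna : n * a * n⁻¹ ≠ a := hnv ▸ hva
  obtain ⟨hw2a, hw2v, hall⟩ := hs.cycle_of_moving ha ha1 hnN hna
  rw [hnv] at hw2a hw2v hall
  set w := n * v * n⁻¹ with hw
  have hwA : w ∈ A := hs.conj_mem hnN hv
  have hw1 : w ≠ 1 := fun e => hv1 (conj_eq_one_iff.1 e)
  have hback : ∀ z ∈ A, z ≠ 1 → ∀ t ∈ T (n * z * n⁻¹), n⁻¹ * t * n ∈ T z := fun z hz hz1 t ht => by
    have := hT.equiv n⁻¹ (inv_mem hnA) _ (hs.conj_mem hnN hz) (fun e => hz1 (conj_eq_one_iff.1 e)) t ht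
    rwa [show n⁻¹ * (n * z * n⁻¹) * n⁻¹⁻¹ = z by group, inv_inv] at this
  have hvw : ∀ t ∈ T v, ∀ u ∈ T w, t * u = u * t := fun t ht u hu => by
    have h1 := hcomm _ (hback a ha ha1 t (hnv.symm ▸ ht)) _ (hback v hv hv1 u hu)
    calc t * u = n * (n⁻¹ * t * n * (n⁻¹ * u * n)) * n⁻¹ := by group
      _ = u * t := by rw [h1]; group
  have hnw : n * w * n⁻¹ = a := by
    rcases hall (n * w * n⁻¹) (hs.conj_mem hnN hwA) (fun e => hw1 (conj_eq_one_iff.1 e)) with e | e | e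
    · exact e
    · exfalso
      have : n * w * n⁻¹ = n * a * n⁻¹ := e.trans hnv.symm
      exact hw2a (mul_left_cancel (mul_right_cancel this))
    · exfalso
      exact hw2v (mul_left_cancel (mul_right_cancel e))
  have hwa' : ∀ t ∈ T w, ∀ u ∈ T a, t * u = u * t := fun t ht u hu => by
    have h1 := hvw _ (hback v hv hv1 t ht) _ (hback w hwA hw1 u (hnw.symm ▸ hu))
    calc t * u = n * (n⁻¹ * t * n * (n⁻¹ * u * n)) * n⁻¹ := by group
      _ = u * t := by rw [h1]; group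
  set U := T a ⊔ T v ⊔ T w with hU
  have hUN : ∀ g : G, (∀ z ∈ A, z ≠ 1 → ∀ t ∈ T z, g * t * g⁻¹ ∈ U) → g ∈ normalizer (U : Set G) := fun g hg =>
    mem_normalizer_fintype fun x hx => by
      have hle : U ≤ U.comap (MulAut.conj g).toMonoidHom := sup_le (sup_le (fun t ht => hg a ha ha1 t ht)
        (fun t ht => hg v hv hv1 t ht)) (fun t ht => hg w hwA hw1 t ht)
      exact hle hx
  have hUz : ∀ z ∈ A, z ≠ 1 → T z ≤ U := fun z hz hz1 => by
    rcases hall z hz hz1 with rfl | rfl | rfl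
    · exact le_sup_left.trans le_sup_left
    · exact le_sup_right.trans le_sup_left
    · exact le_sup_right
  have hUcomm : IsMulCommutative ↥U := by
    have hgen : U = closure ((T a : Set G) ∪ T v ∪ T w) := by
      rw [Subgroup.closure_union, Subgroup.closure_union, closure_eq, closure_eq, closure_eq]
    rw [hgen]
    refine Subgroup.isMulCommutative_closure ?_
    rintro x ((hx | hx) | hx) y ((hy | hy) | hy)
    · exact congrArg Subtype.val ((hT.comm a ha ha1).is_comm.comm (⟨x, hx⟩ : ↥(T a)) ⟨y, hy⟩)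
    · exact hcomm x hx y hy
    · exact (hwa' y hy x hx).symm
    · exact (hcomm y hy x hx).symm
    · exact congrArg Subtype.val ((hT.comm v hv hv1).is_comm.comm (⟨x, hx⟩ : ↥(T v)) ⟨y, hy⟩)
    · exact hvw x hx y hy
    · exact hwa' x hx y hy
    · exact (hvw y hy x hx).symm
    · exact congrArg Subtype.val ((hT.comm w hwA hw1).is_comm.comm (⟨x, hx⟩ : ↥(T w)) ⟨y, hy⟩)
  have hNtop : normalizer (U : Set G) ≠ ⊤ := by
    intro e
    rcases (normalizer_eq_top_iff.1 e).eq_bot_or_eq_top with e' | e'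
    · exact hT.ne a ha ha1 (le_bot_iff.1 (e' ▸ hUz a ha ha1))
    · exact hs.not_comm ⟨⟨fun x y => congrArg Subtype.val (hUcomm.is_comm.comm
        (⟨x, e' ▸ mem_top x⟩ : ↥U) ⟨y, e' ▸ mem_top y⟩)⟩⟩
  have hCU : centralizer ({a} : Set G) ≤ normalizer (U : Set G) := (hT.gen a ha ha1).trans (sup_le
    ((le_sup_left.trans le_sup_left : T a ≤ U).trans le_normalizer)
    fun g hg => hUN g fun z hz hz1 t ht =>
      hUz z hz hz1 ((mem_normalizer_iff.1 (hT.normal z hz hz1 (centralizer_A_le hT hs hz hz1 hg)) t).1 ht))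
  have hnU : n ∈ normalizer (U : Set G) := hUN n fun z hz hz1 t ht =>
    hUz _ (hs.conj_mem hnN hz) (fun e => hz1 (conj_eq_one_iff.1 e)) (hT.equiv n hnA z hz hz1 t ht)
  exact hna (h.isolated_of_centralizer_le ha ha1 hNtop hCU hnU (hs.conj_mem hnN ha))

end TorusData

end Cfsg.Agent.Goldschmidt.ThreeInv
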