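import Cfsg.Agent.EqLemmas
import Cfsg.Agent.Lib.Goldschmidt.ThreeInv.Cent.Maximal
import Cfsg.Agent.Lib.Signalizer.SSFT.Main
import Cfsg.Agent.Lib.Signalizer.Core
import Cfsg.Agent.Lib.Components.LocalBalance
import Cfsg.Agent.Lib.FPQ.Basic

/-!
# Three involutions, section 2 (b): centralisers of elements of `T a` (owner: helper63)

* `TorusData.eq_of_commute_involution` : in `C(e)`, `e ∈ T a #`, no involution other than `a` commutes with `a`
* `TorusData.isSolvable_centralizer_torus` : `C(e)` is solvable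
* `TorusData.centralizer_torus_le` : `C(t) ≤ C(a)` for `t ∈ T a #`
-/

set_option autoImplicit false
set_option linter.style.haveILetI false
set_option linter.unusedSectionVars false

namespace Cfsg.Agent.Goldschmidt.ThreeInv

open Subgroup

universe u

variable {G : Type u} [Group G] [Finite G] {S : Sylow 2 G} {A : Subgroup G} {T : G → Subgroup G}

namespace TorusData

variable (hT : TorusData S A T) (h : Setting S A) [IsSimpleGroup G] {a : G} (ha : a ∈ A) (ha1 : a ≠ 1)
  {e : G} (he : e ∈ T a) (he1 : e ≠ 1)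

include hT h ha ha1 he he1

/-- Two commuting involutions of `C(e)` that commute with `a` coincide. -/
theorem eq_of_pair {s u : G} (hs : s * s = 1) (hs1 : s ≠ 1) (hu : u * u = 1) (hu1 : u ≠ 1)
    (hsu : s * u = u * s) (hsa : s * a = a * s) (hua : u * a = a * u)
    (hse : s * e = e * s) (hue : u * e = e * u) : s = u := by
  by_contra hne
  haveI : Fact (Nat.Prime 2) := ⟨Nat.prime_two⟩
  -- move `s, u, a` into `S`
  obtain ⟨g, hgs, hgu, hga⟩ :
      ∃ g : G, g * s * g⁻¹ ∈ A ∧ g * u * g⁻¹ ∈ A ∧ g * a * g⁻¹ ∈ A := by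
    have hpg : ∀ x : G, x * x = 1 → IsPGroup 2 ↥(zpowers x) := fun x hx => by
      obtain ⟨i, -, hi⟩ := (Nat.dvd_prime_pow Nat.prime_two).1
        (orderOf_dvd_of_pow_eq_one (show x ^ 2 ^ 1 = 1 by rw [pow_one, pow_two, hx]))
      exact IsPGroup.of_card (n := i) (by rw [Nat.card_zpowers, hi])
    have hn : ∀ x y : G, x * y = y * x → zpowers x ≤ normalizer (zpowers y : Set G) := fun x y hxy =>
      zpowers_le.2 (centralizer_le_normalizer _ (mem_centralizer_iff.2 fun z hz => by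
        obtain ⟨k, rfl⟩ := mem_zpowers_iff.1 hz
        exact ((show Commute y x from hxy.symm).zpow_left k).eq))
    have h1 : IsPGroup 2 ↥(zpowers s ⊔ zpowers u) :=
      (hpg s hs).to_sup_of_normal_right' (hpg u hu) (hn s u hsu)
    have hna : zpowers s ⊔ zpowers u ≤ normalizer (zpowers a : Set G) := sup_le (hn s a hsa) (hn u a hua)
    have h2 : IsPGroup 2 ↥((zpowers s ⊔ zpowers u) ⊔ zpowers a) :=
      h1.to_sup_of_normal_right' (hpg a (h.sq ha)) hna
    obtain ⟨g, hg⟩ := PiClassCount.exists_conj_mem_sylow S h2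
    have key : ∀ x ∈ (zpowers s ⊔ zpowers u) ⊔ zpowers a, x * x = 1 → g * x * g⁻¹ ∈ A := fun x hx hx2 =>
      (h.mem _ (hg x hx)).1 (by rw [show g * x * g⁻¹ * (g * x * g⁻¹) = g * (x * x) * g⁻¹ by group, hx2]; group)
    exact ⟨g, key s (mem_sup_left (mem_sup_left (mem_zpowers s))) hs,
      key u (mem_sup_left (mem_sup_right (mem_zpowers u))) hu, key a (mem_sup_right (mem_zpowers a)) (h.sq ha)⟩
  -- `g a g⁻¹` back to `a` inside `N(S)`
  obtain ⟨k, hk, hka⟩ := h.fused hga (fun e' => ha1 (conj_eq_one_iff.1 e')) ha ha1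
  have hkN : k ∈ normalizer ((S : Subgroup G) : Set G) := mem_normalizer_fintype hk
  set g' := k * g with hg'
  have hg'a : g' * a * g'⁻¹ = a :=
    (show g' * a * g'⁻¹ = k * (g * a * g⁻¹) * k⁻¹ by rw [hg']; group).trans hka
  have hmem : ∀ x : G, g * x * g⁻¹ ∈ A → g' * x * g'⁻¹ ∈ A := fun x hx => by
    rw [hg', show k * g * x * (k * g)⁻¹ = k * (g * x * g⁻¹) * k⁻¹ by group]
    exact h.conj_mem hkN hx
  have hg'C : g' ∈ centralizer ({a} : Set G) := mem_centralizer_singleton_iff.2 (mul_inv_eq_iff_eq_mul.1 hg'a)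
  have het : g' * e * g'⁻¹ ∈ T a := (mem_normalizer_iff.1 (hT.normal a ha ha1 hg'C) e).1 he
  -- it centralises two involutions of `A`, so `A`
  have hcen : g' * e * g'⁻¹ ∈ centralizer (A : Set G) := by
    set s' := g' * s * g'⁻¹ with hs'
    set u' := g' * u * g'⁻¹ with hu'
    have hcomm : ∀ x : G, x * e = e * x → g' * x * g'⁻¹ * (g' * e * g'⁻¹) = g' * e * g'⁻¹ * (g' * x * g'⁻¹) :=
      fun x hx => by
        rw [show g' * x * g'⁻¹ * (g' * e * g'⁻¹) = g' * (x * e) * g'⁻¹ by group, hx]; group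
    have hs'A := hmem s hgs
    have hu'A := hmem u hgu
    have hs'1 : s' ≠ 1 := fun e' => hs1 (conj_eq_one_iff.1 e')
    have hu'1 : u' ≠ 1 := fun e' => hu1 (conj_eq_one_iff.1 e')
    have hsu' : s' ≠ u' := fun e' => hne (mul_left_cancel (mul_right_cancel e'))
    have hp : s' * u' ≠ 1 := fun e' => hsu' (mul_left_cancel (a := s') ((h.sq hs'A).trans e'.symm))
    refine mem_centralizer_iff.2 fun z hz => ?_
    by_cases hz1 : z = 1
    · rw [hz1, one_mul, mul_one]
    rcases h.eq_or_eq_or_eq hs'A hu'A (A.mul_mem hs'A hu'A) hs'1 hu'1 hp hsu'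
        (fun e' => hs'1 (mul_right_cancel (b := u') (by rw [one_mul]; exact e'.symm)))
        (fun e' => hu'1 (mul_left_cancel (a := s') (by rw [mul_one]; exact e'.symm))) hz hz1 with rfl | rfl | rfl
    · exact hcomm s hse
    · exact hcomm u hue
    · exact (Commute.mul_left (show Commute s' (g' * e * g'⁻¹) from hcomm s hse)
        (show Commute u' (g' * e * g'⁻¹) from hcomm u hue)).eq
  have hbot : g' * e * g'⁻¹ ∈ T a ⊓ centralizer (A : Set G) := ⟨het, hcen⟩
  rw [inf_eq_bot hT h ha ha1, mem_bot] at hbot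
  exact he1 (conj_eq_one_iff.1 hbot)

/-- `a` is the only involution of `C(e)` commuting with `a`. -/
theorem eq_of_commute_involution {s : G} (hs : s * s = 1) (hs1 : s ≠ 1) (hse : s * e = e * s)
    (hsa : s * a = a * s) : s = a :=
  eq_of_pair hT h ha ha1 he he1 hs hs1 (h.sq ha) ha1 hsa hsa rfl hse
    (mem_centralizer_singleton_iff.1 (hT.le a ha ha1 he)).symm

/-- `C(e)` is solvable. -/
theorem isSolvable_centralizer_torus : Group.IsSolvable ↥(centralizer ({e} : Set G)) := by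
  haveI : Fact (Nat.Prime 2) := ⟨Nat.prime_two⟩
  refine h.isSolvable_of_rank_one fun s hs t ht hs2 ht2 hs1 ht1 hst => ?_
  set C := centralizer ({e} : Set G) with hC
  have haC : a ∈ C := mem_centralizer_singleton_iff.2 (mem_centralizer_singleton_iff.1 (hT.le a ha ha1 he)).symm
  -- a Sylow subgroup of `C` through `a`
  have hpg : ∀ x : ↥C, (x : G) * x = 1 → IsPGroup 2 ↥(zpowers x) := fun x hx => by
    obtain ⟨i, -, hi⟩ := (Nat.dvd_prime_pow Nat.prime_two).1
      (orderOf_dvd_of_pow_eq_one (show x ^ 2 ^ 1 = 1 from Subtype.ext (by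
        show (x : G) ^ 2 ^ 1 = 1
        rw [pow_one, pow_two, hx])))
    exact IsPGroup.of_card (n := i) (by rw [Nat.card_zpowers, hi])
  obtain ⟨P, hP⟩ := (hpg ⟨a, haC⟩ (h.sq ha)).exists_le_sylow
  have hsup : IsPGroup 2 ↥(zpowers (⟨s, hs⟩ : ↥C) ⊔ zpowers ⟨t, ht⟩) :=
    (hpg _ hs2).to_sup_of_normal_right' (hpg _ ht2) (zpowers_le.2 (centralizer_le_normalizer _
      (mem_centralizer_iff.2 fun z hz => by
        obtain ⟨k, rfl⟩ := mem_zpowers_iff.1 hz
        exact ((show Commute (⟨t, ht⟩ : ↥C) ⟨s, hs⟩ from Subtype.ext hst.symm).zpow_left k).eq)))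
  obtain ⟨c, hc⟩ := PiClassCount.exists_conj_mem_sylow P hsup
  -- everything in `P` squaring to one is `1` or `a`
  have hPa : ∀ x ∈ (P : Subgroup ↥C), (x : G) * x = 1 → (x : G) ≠ 1 → (x : G) = a := by
    haveI : Nontrivial ↥(P : Subgroup ↥C) := (Subgroup.nontrivial_iff_ne_bot _).2 fun e' => by
      have h1 : (⟨a, haC⟩ : ↥C) ∈ (P : Subgroup ↥C) := hP (mem_zpowers _)
      rw [e', mem_bot] at h1
      exact ha1 (congrArg Subtype.val h1)
    haveI := P.2.center_nontrivial
    obtain ⟨n, hn, hcard⟩ := IsPGroup.nontrivial_iff_card (P.2.to_subgroup _) |>.1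
      (inferInstance : Nontrivial ↥(Subgroup.center ↥(P : Subgroup ↥C)))
    obtain ⟨z, hz⟩ := exists_prime_orderOf_dvd_card' (G := ↥(Subgroup.center ↥(P : Subgroup ↥C))) 2
      (hcard ▸ dvd_pow_self 2 hn.ne')
    set z₀ : G := (((z : ↥(P : Subgroup ↥C)) : ↥C) : G)
    have hz₀o : orderOf z₀ = 2 := by
      simp only [z₀]
      rw [orderOf_submonoid, orderOf_submonoid, orderOf_submonoid, hz]
    have hz₀1 : z₀ ≠ 1 := fun e' => by rw [e', orderOf_one] at hz₀o; omega
    have hz₀2 : z₀ * z₀ = 1 := by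
      rw [← pow_two]; exact orderOf_dvd_iff_pow_eq_one.1 hz₀o.dvd
    have hcomm : ∀ x ∈ (P : Subgroup ↥C), z₀ * (x : G) = (x : G) * z₀ := fun x hx =>
      (congrArg (fun y : ↥(P : Subgroup ↥C) => ((y : ↥C) : G)) (Subgroup.mem_center_iff.1 z.2 ⟨x, hx⟩)).symm
    have hz₀a : z₀ = a := eq_of_commute_involution hT h ha ha1 he he1 hz₀2 hz₀1
      (mem_centralizer_singleton_iff.1 ((z : ↥(P : Subgroup ↥C)) : ↥C).2)
      (hcomm ⟨a, haC⟩ (hP (mem_zpowers _)))
    intro x hx hx2 hx1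
    exact eq_of_commute_involution hT h ha ha1 he he1 hx2 hx1 (mem_centralizer_singleton_iff.1 x.2)
      (hz₀a ▸ (hcomm x hx).symm)
  have hone : ∀ x : ↥C, x ∈ zpowers (⟨s, hs⟩ : ↥C) ⊔ zpowers ⟨t, ht⟩ → (x : G) * x = 1 → (x : G) ≠ 1 →
      (c : G) * x * (c : G)⁻¹ = a := fun x hx hx2 hx1 => hPa (c * x * c⁻¹) (hc x hx) (by
    show (c : G) * x * (c : G)⁻¹ * ((c : G) * x * (c : G)⁻¹) = 1
    rw [show (c : G) * x * (c : G)⁻¹ * ((c : G) * x * (c : G)⁻¹) = (c : G) * ((x : G) * x) * (c : G)⁻¹ by group,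
      hx2]
    group) fun e' => hx1 (conj_eq_one_iff.1 e')
  exact mul_left_cancel (mul_right_cancel ((hone ⟨s, hs⟩ (mem_sup_left (mem_zpowers _)) hs2 hs1).trans
    (hone ⟨t, ht⟩ (mem_sup_right (mem_zpowers _)) ht2 ht1).symm))

end TorusData

/-- The elements of `T a` of order dividing `p`. -/
def torusOmega (hT : TorusData S A T) {a : G} (ha : a ∈ A) (ha1 : a ≠ 1) (p : ℕ) : Subgroup G where
  carrier := {x | x ∈ T a ∧ x ^ p = 1}
  one_mem' := ⟨one_mem _, one_pow _⟩
  inv_mem' := fun hx => ⟨inv_mem hx.1, by rw [inv_pow, hx.2, inv_one]⟩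
  mul_mem' := fun {x y} hx hy => ⟨mul_mem hx.1 hy.1, by
    have hc : Commute x y := congrArg Subtype.val
      ((hT.comm a ha ha1).is_comm.comm (⟨x, hx.1⟩ : ↥(T a)) ⟨y, hy.1⟩)
    rw [hc.mul_pow, hx.2, hy.2, one_mul]⟩

namespace TorusData

/-- `C(e) ≤ C(a)` for `e ∈ T a` of prime order. -/
theorem centralizer_prime_le (hpow : PowFourTarget.{u}) (hT : TorusData S A T) (h : Hyp S A) {a : G}
    (ha : a ∈ A) (ha1 : a ≠ 1) {p : ℕ} (hp : p.Prime) {e : G} (he : e ∈ T a) (heo : orderOf e = p) :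
    centralizer ({e} : Set G) ≤ centralizer ({a} : Set G) := by
  haveI := h.simple
  haveI := Fact.mk hp
  have hs := h.setting
  have he1 : e ≠ 1 := fun e' => by rw [e', orderOf_one] at heo; exact hp.ne_one heo.symm
  have hp2 : p ≠ 2 := by
    rintro rfl
    exact Nat.not_even_iff_odd.2 ((hT.odd a ha ha1).of_dvd_nat (Subgroup.orderOf_dvd_natCard _ he))
      (heo ▸ even_two)
  have hsolv : ∀ f ∈ T a, f ≠ 1 → Group.IsSolvable ↥(centralizer ({f} : Set G)) := fun f hf hf1 =>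
    isSolvable_centralizer_torus hT hs ha ha1 hf hf1
  have hTc : ∀ x ∈ T a, ∀ y ∈ T a, x * y = y * x := fun x hx y hy =>
    congrArg Subtype.val ((hT.comm a ha ha1).is_comm.comm (⟨x, hx⟩ : ↥(T a)) ⟨y, hy⟩)
  have hCA : centralizer (A : Set G) ≤ centralizer ({a} : Set G) := centralizer_A_le hT hs ha ha1
  have hnt : ¬ Group.IsSolvable G := fun hsv => hs.not_comm
    ⟨⟨IsSimpleGroup.comm_iff_isSolvable.2 hsv⟩⟩
  set E := torusOmega hT ha ha1 p with hE
  have hEel : Cfsg.IsElementaryAbelian p E :=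
    ⟨⟨⟨fun x y => Subtype.ext (hTc x x.2.1 y y.2.1)⟩⟩, fun x hx => hx.2⟩
  have hEN : centralizer ({a} : Set G) ≤ normalizer (E : Set G) := fun g hg =>
    mem_normalizer_fintype fun x hx => ⟨(mem_normalizer_iff.1 (hT.normal a ha ha1 hg) x).1 hx.1,
      by rw [conj_pow, hx.2, mul_one, mul_inv_cancel]⟩
  -- rank at least three
  have hE3 : p ^ 3 ≤ Nat.card E := by
    obtain ⟨k, hk⟩ := hpow G S A T hs hT a ha ha1 E (fun x hx => hx.1) ((hs.central.trans hCA).trans hEN)
    have hEp : IsPGroup p ↥E := fun x => ⟨1, Subtype.ext (by rw [pow_one]; exact x.2.2)⟩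
    obtain ⟨n, hn⟩ := IsPGroup.iff_card.1 hEp
    have hk1 : k ≠ 1 := fun e' => by
      rw [e', one_pow] at hk
      exact he1 (mem_bot.1 (Subgroup.card_eq_one.1 hk ▸
        (show e ∈ E from ⟨he, heo ▸ pow_orderOf_eq_one e⟩)))
    obtain ⟨j, -, rfl⟩ := (Nat.dvd_prime_pow hp).1 (show k ∣ p ^ n from hn ▸ hk ▸ dvd_pow_self k (by norm_num))
    rw [hk, ← pow_mul]
    refine Nat.pow_le_pow_right hp.pos ?_
    rcases j with - | j
    · simp at hk1
    · omega
  have heE : e ∈ E := ⟨he, heo ▸ pow_orderOf_eq_one e⟩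
  have hθ := Signalizer.isSolvableSignalizerFunctor_core hEel fun f hf hf1 => hsolv f hf.1 hf1
  obtain ⟨hWs, hWp, -⟩ := Signalizer.solvable_signalizer_functor hEel hE3 hθ
  set W := ⨆ f : {f : G // f ∈ E ∧ f ≠ 1}, Cfsg.centralizerPPrimeCore p (f : G) with hW
  -- `W` is normalised by `C(a)`
  have hWN : centralizer ({a} : Set G) ≤ normalizer (W : Set G) := fun g hg =>
    mem_normalizer_fintype fun x hx => by
      have hle : W ≤ W.comap (MulAut.conj g).toMonoidHom := iSup_le fun f => map_le_iff_le_comap.1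
        ((Components.centralizerPPrimeCore_map_le (MulAut.conj g) (f : G)).trans
          (le_iSup (fun f : {f : G // f ∈ E ∧ f ≠ 1} => Cfsg.centralizerPPrimeCore p (f : G))
            ⟨g * f * g⁻¹, (mem_normalizer_iff.1 (hEN hg) _).1 f.2.1,
              fun e' => f.2.2 (conj_eq_one_iff.1 e')⟩))
      exact hle hx
  have hWle : W ≤ centralizer ({a} : Set G) := by
    by_cases hW1 : W = ⊥
    · rw [hW1]; exact bot_le
    have hne : normalizer (W : Set G) ≠ ⊤ := fun e' => by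
      rcases (normalizer_eq_top_iff.1 e').eq_bot_or_eq_top with e'' | e''
      · exact hW1 e''
      · refine hnt ?_
        haveI := hWs
        rw [e''] at this
        exact Group.isSolvable_of_surjective (f := (Subgroup.topEquiv (G := G)).toMonoidHom)
          Subgroup.topEquiv.surjective
    exact (le_normalizer (H := W)).trans (hT.maximal h ha ha1 hne hWN).le
  -- `a ∈ O_p'(C(e))`
  set C := centralizer ({e} : Set G) with hC
  haveI := hsolv e he he1
  have hTC : T a ≤ C := fun x hx => mem_centralizer_singleton_iff.2 (hTc x hx e he)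
  have haC : a ∈ C := mem_centralizer_singleton_iff.2 (mem_centralizer_singleton_iff.1 (hT.le a ha ha1 he)).symm
  set B := part (T a) p with hB
  have hBC : B ≤ C := (part_le _ _).trans hTC
  have hB1 : B ≠ ⊥ := fun e' => by
    haveI : (zpowers (⟨e, he⟩ : ↥(T a))).Normal := ⟨fun x hx g => by
      rwa [show g * x * g⁻¹ = x by
        rw [show g * x = x * g from Subtype.ext (hTc g g.2 x x.2), mul_inv_cancel_right]]⟩
    have hle : zpowers (⟨e, he⟩ : ↥(T a)) ≤ Cfsg.pCore p ↥(T a) := le_sSup ⟨inferInstance,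
      IsPGroup.of_card (n := 1) (by rw [Nat.card_zpowers, Subgroup.orderOf_mk, heo, pow_one])⟩
    exact he1 (mem_bot.1 (e' ▸ (⟨⟨e, he⟩, hle (mem_zpowers _), rfl⟩ : e ∈ B)))
  have hNB : centralizer ({a} : Set G) ≤ normalizer (B : Set G) :=
    (hT.normal a ha ha1).trans (normalizer_le_part _ _)
  have hCB : centralizer (B : Set G) ≤ centralizer ({a} : Set G) := by
    refine (centralizer_le_normalizer _).trans (hT.maximal h ha ha1 (fun e' => ?_) hNB).le
    rcases (normalizer_eq_top_iff.1 e').eq_bot_or_eq_top with e'' | e''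
    · exact hB1 e''
    · exact hs.not_comm ⟨⟨fun x y => hTc x (part_le _ _ (e'' ▸ mem_top x : x ∈ B)) y
        (part_le _ _ (e'' ▸ mem_top y : y ∈ B))⟩⟩
  set O := Cfsg.pPrimeCore p ↥C with hO
  set f := QuotientGroup.mk' O with hf
  set P := Cfsg.pCore p (↥C ⧸ O) with hP
  haveI hPn : P.Normal := Cores.pCore_normal p _
  set y : ↥C ⧸ O := f ⟨a, haC⟩ with hy
  have hBp : IsPGroup p ↥(B.subgroupOf C) :=
    (part_isPGroup _ _).of_equiv (subgroupOfEquivOfLe hBC).symm
  have hyo : orderOf y ∣ 2 := by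
    refine (orderOf_map_dvd f _).trans ?_
    rw [Subgroup.orderOf_mk]
    exact orderOf_dvd_of_pow_eq_one (by rw [pow_two, hs.sq ha])
  have hpxq : P ≤ centralizer ({y} : Set (↥C ⧸ O)) := by
    refine FPQ.pxq (p := p) (Cores.isPGroup_pCore p _) (hBp.map f)
      (normalizer_eq_top_iff.2 hPn ▸ le_top) ?_ (normalizer_eq_top_iff.2 hPn ▸ mem_top _) ?_ ?_
    · exact ((Nat.coprime_primes Nat.prime_two hp).2 hp2.symm).coprime_dvd_left hyo
    · refine mem_centralizer_iff.2 ?_
      rintro _ ⟨b, hb, rfl⟩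
      rw [hy, ← map_mul, ← map_mul]
      exact congrArg f (Subtype.ext (mem_centralizer_singleton_iff.1
        (hT.le a ha ha1 (part_le _ _ (mem_subgroupOf.1 hb)))))
    · rintro x ⟨-, hx⟩
      rw [Components.centralizer_map_of_coprime hBp O (Cores.coprime_card_pPrimeCore p)] at hx
      obtain ⟨c, hc, rfl⟩ := hx
      refine mem_centralizer_singleton_iff.2 ?_
      rw [hy, ← map_mul, ← map_mul]
      refine congrArg f (Subtype.ext (mem_centralizer_singleton_iff.1 (hCB ?_)))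
      exact mem_centralizer_iff.2 fun b hb => congrArg Subtype.val
        (mem_centralizer_iff.1 hc ⟨b, hBC hb⟩ (mem_subgroupOf.2 hb))
  have haO : (⟨a, haC⟩ : ↥C) ∈ O := by
    haveI : Group.IsSolvable (↥C ⧸ O) := Group.isSolvable_of_surjective (QuotientGroup.mk'_surjective O)
    have h1 : y ∈ P := Solvable.centralizer_pCore_le_of_isSolvable (p := p)
      (Cores.pPrimeCore_quotient_self (G := ↥C) p)
      (mem_centralizer_iff.2 fun v hv => mem_centralizer_singleton_iff.1 (hpxq hv))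
    obtain ⟨j, hj⟩ := IsPGroup.iff_orderOf.1 (Cores.isPGroup_pCore p (↥C ⧸ O)) ⟨y, h1⟩
    rw [Subgroup.orderOf_mk] at hj
    refine (QuotientGroup.eq_one_iff _).1 (orderOf_eq_one_iff.1 ?_)
    exact Nat.eq_one_of_dvd_coprimes (((Nat.coprime_primes Nat.prime_two hp).2 hp2.symm).pow_right j) hyo hj.dvd
  -- so `C(e) ≤ C(a)`
  intro g hg
  have hmem : g * a * g⁻¹ ∈ Cfsg.centralizerPPrimeCore p e :=
    ⟨⟨g, hg⟩ * ⟨a, haC⟩ * ⟨g, hg⟩⁻¹, (inferInstance : O.Normal).conj_mem _ haO _, rfl⟩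
  have hga : g * a * g⁻¹ * a = a * (g * a * g⁻¹) := mem_centralizer_singleton_iff.1
    (hWle (le_iSup (fun f : {f : G // f ∈ E ∧ f ≠ 1} => Cfsg.centralizerPPrimeCore p (f : G))
      ⟨e, heE, he1⟩ hmem))
  have heq : g * a * g⁻¹ = a := eq_of_commute_involution hT hs ha ha1 he he1
    (by rw [show g * a * g⁻¹ * (g * a * g⁻¹) = g * (a * a) * g⁻¹ by group, hs.sq ha]; group)
    (fun e' => ha1 (conj_eq_one_iff.1 e'))
    (mem_centralizer_singleton_iff.1 (C.mul_mem (C.mul_mem hg haC) (C.inv_mem hg))) hga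
  exact mem_centralizer_singleton_iff.2 (mul_inv_eq_iff_eq_mul.1 heq)

/-- `C(t) ≤ C(a)` for `t ∈ T a #`. -/
theorem centralizer_torus_le (hpow : PowFourTarget.{u}) (hT : TorusData S A T) (h : Hyp S A) {a : G}
    (ha : a ∈ A) (ha1 : a ≠ 1) {t : G} (ht : t ∈ T a) (ht1 : t ≠ 1) :
    centralizer ({t} : Set G) ≤ centralizer ({a} : Set G) := by
  obtain ⟨p, hp, hpd⟩ := Nat.exists_prime_and_dvd (fun e' => ht1 (orderOf_eq_one_iff.1 e'))
  set e := t ^ (orderOf t / p) with he
  have heo : orderOf e = p := by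
    rw [he, orderOf_pow_of_dvd
      (Nat.div_pos (Nat.le_of_dvd (orderOf_pos t) hpd) hp.pos).ne' (Nat.div_dvd_of_dvd hpd),
      Nat.div_div_self hpd (orderOf_pos t).ne']
  refine le_trans (fun g hg => mem_centralizer_singleton_iff.2 ?_)
    (centralizer_prime_le hpow hT h ha ha1 hp (pow_mem ht _) heo)
  exact ((show Commute g t from mem_centralizer_singleton_iff.1 hg).pow_right _).eq

end TorusData

end Cfsg.Agent.Goldschmidt.ThreeInv
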