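import Cfsg.Agent.EqLemmas
import Cfsg.Agent.Lib.Goldschmidt.ThreeInv.Cent.Cent

/-!
# Three involutions, section 2 (c): fixed points of elements of `O(C(A))` (owner: helper63)

* `TorusData.exists_torus_mem` : outside `C(A)` an `A`-invariant abelian group meets some `T v`
* `TorusData.noTwoTypes` : (c)
* `TorusData.fixer` : `C(y) ≤ C(a)` when `y` fixes a point of `T a`
-/

set_option autoImplicit false
set_option linter.style.haveILetI false
set_option linter.unusedSectionVars false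

namespace Cfsg.Agent.Goldschmidt.ThreeInv

open Subgroup

universe u

variable {G : Type u} [Group G] [Finite G] {S : Sylow 2 G} {A : Subgroup G} {T : G → Subgroup G}

/-- An odd element of `C(A)` with `[q, x]` in an odd subgroup, `q ∈ S \ A`, lies in `O(C(A))`. -/
theorem Setting.mem_coreA_of_commutator (h : Setting S A) [IsSimpleGroup G] {x q : G}
    (hx : x ∈ centralizer (A : Set G)) (hxo : Odd (orderOf x)) (hq : q ∈ (S : Subgroup G)) (hqA : q ∉ A)
    {Z : Subgroup G} (hZ : Odd (Nat.card Z)) (hxq : x * q * x⁻¹ * q⁻¹ ∈ Z) : x ∈ coreA A := by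
  obtain ⟨a, ha, ha1⟩ := h.exists_ne_one
  set C := centralizer ({a} : Set G)
  have hle : centralizer (A : Set G) ≤ C := fun g hg =>
    mem_centralizer_singleton_iff.2 (mem_centralizer_iff.1 hg a ha).symm
  set O := (Cfsg.oddCore ↥C).map C.subtype with hO
  have hOodd : Odd (Nat.card O) := by
    rw [hO, card_map_of_injective C.subtype_injective]
    exact Nat.coprime_two_right.1 (Cores.coprime_card_pPrimeCore 2)
  refine le_coreA (K := O ⊓ centralizer (A : Set G)) inf_le_right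
    (hOodd.of_dvd_nat (card_dvd_of_le inf_le_left)) (fun g hg y hy => ⟨?_, ?_⟩)
    ⟨h.mem_core_of_fixed ha ha1 (hle hx) hxo hq hqA hZ hxq, hx⟩
  · obtain ⟨r, hr, rfl⟩ := hy.1
    exact ⟨⟨g, hle hg⟩ * r * ⟨g, hle hg⟩⁻¹, (inferInstance : (Cfsg.oddCore ↥C).Normal).conj_mem r hr _, rfl⟩
  · exact (centralizer (A : Set G)).mul_mem ((centralizer (A : Set G)).mul_mem hg hy.2)
      ((centralizer (A : Set G)).inv_mem hg)

namespace TorusData

variable (hT : TorusData S A T)

include hT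

/-- An element of `C(v)` outside `C(A)` has a non-trivial commutator with `b` in `T v`. -/
theorem exists_comm_mem (h : Setting S A) {v : G} (hv : v ∈ A) (hv1 : v ≠ 1) {x : G}
    (hx : x ∈ centralizer ({v} : Set G)) (hxA : x ∉ centralizer (A : Set G)) :
    ∃ b ∈ A, b ≠ 1 ∧ b ≠ v ∧ x * b * x⁻¹ * b⁻¹ ∈ T v ∧ x * b * x⁻¹ * b⁻¹ ≠ 1 := by
  obtain ⟨t, ht, c, hc, rfl⟩ := exists_mul hT h hv hv1 hx
  have ht1 : t ≠ 1 := fun e => hxA (by rw [e, one_mul]; exact hc)
  obtain ⟨b, hb, hb1, hbv⟩ : ∃ b ∈ A, b ≠ 1 ∧ b ≠ v := by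
    by_contra hno
    push Not at hno
    have hA : A ≤ zpowers v := fun y hy => by
      by_cases hy1 : y = 1
      · rw [hy1]; exact one_mem _
      · rw [hno y hy hy1]; exact mem_zpowers v
    have h1 := Subgroup.card_le_of_le hA
    rw [h.card, Nat.card_zpowers] at h1
    have h2 := orderOf_le_of_pow_eq_one (n := 2) (by norm_num) (by rw [pow_two]; exact h.sq hv : v ^ 2 = 1)
    omega
  have he : t * c * b * (t * c)⁻¹ * b⁻¹ = t * t := by
    calc t * c * b * (t * c)⁻¹ * b⁻¹ = t * (c * b) * c⁻¹ * t⁻¹ * b⁻¹ := by group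
      _ = t * (b * c) * c⁻¹ * t⁻¹ * b⁻¹ := by rw [mem_centralizer_iff.1 hc b hb]
      _ = t * (b * t * b⁻¹)⁻¹ := by group
      _ = t * t := by rw [hT.inverts v hv hv1 b hb hb1 hbv t ht, inv_inv]
  refine ⟨b, hb, hb1, hbv, he ▸ mul_mem ht ht, fun e => ?_⟩
  rw [he] at e
  obtain ⟨k, hk⟩ := (hT.odd v hv hv1).of_dvd_nat (Subgroup.orderOf_dvd_natCard _ ht)
  have h2 := pow_orderOf_eq_one t
  rw [hk, pow_succ, pow_mul, pow_two, e, one_pow, one_mul] at h2
  exact ht1 h2

/-- An odd `A`-invariant group not in `C(A)` meets some `T v` non-trivially. -/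
theorem exists_torus_mem (h : Setting S A) [IsSimpleGroup G] {Z : Subgroup G} (hZ : Odd (Nat.card Z))
    (hAZ : A ≤ normalizer (Z : Set G)) (hne : ¬ Z ≤ centralizer (A : Set G)) :
    ∃ v ∈ A, v ≠ 1 ∧ ∃ w ∈ Z, w ∈ T v ∧ w ≠ 1 := by
  by_contra hno
  push Not at hno
  haveI : IsMulCommutative ↥A := ⟨⟨fun x y => Subtype.ext (h.commute x.2 (h.le y.2))⟩⟩
  refine hne (Coprime.le_of_noncyclic h.not_isCyclic hAZ
    (by rw [h.card, show 4 = 2 ^ 2 by rfl]; exact (Nat.coprime_two_left.2 hZ).pow_left 2) fun v hv hv1 x hx => ?_)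
  by_contra hxA
  obtain ⟨b, hb, -, -, hw, hw1⟩ := exists_comm_mem hT h hv hv1 hx.2 hxA
  refine hw1 (hno v hv hv1 _ ?_ hw)
  rw [show x * b * x⁻¹ * b⁻¹ = x * (b * x⁻¹ * b⁻¹) by group]
  exact mul_mem hx.1 ((mem_normalizer_iff.1 (hAZ hb) _).1 (inv_mem hx.1))

/-- (c). -/
theorem noTwoTypes (h : Hyp S A)
    (hcent : ∀ a ∈ A, a ≠ 1 → ∀ t ∈ T a, t ≠ 1 → centralizer ({t} : Set G) ≤ centralizer ({a} : Set G)) :
    NoTwoTypes S A T := by
  haveI := h.simple
  intro y hy hy1 q hq hqA hqy a ha ha1 b hb hb1 hab t ht ht1 hty u hu hu1 huy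
  have hs := h.setting
  set M := centralizer ({y} : Set G) with hM
  have hyA : y ∈ centralizer (A : Set G) := coreA_le A hy
  have hAM : A ≤ M := fun z hz => mem_centralizer_singleton_iff.2 (mem_centralizer_iff.1 hyA z hz)
  have hMtop : M ≠ ⊤ := fun e => by
    have hc : y ∈ Subgroup.center G := Subgroup.mem_center_iff.2 fun g =>
      mem_centralizer_singleton_iff.1 (e ▸ mem_top g : g ∈ M)
    rcases (inferInstance : (Subgroup.center G).Normal).eq_bot_or_eq_top with e' | e'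
    · rw [e', mem_bot] at hc; exact hy1 hc
    · exact hs.not_comm ⟨⟨fun x z => Subgroup.mem_center_iff.1 (e' ▸ mem_top z : z ∈ Subgroup.center G) x⟩⟩
  set Q := (S : Subgroup G) ⊓ M with hQ
  have hqQ : q ∈ Q := ⟨hq, mem_centralizer_singleton_iff.2 hqy⟩
  set D := (Cfsg.oddCore ↥M).map M.subtype with hDdef
  have hDodd : Odd (Nat.card D) := by
    rw [hDdef, card_map_of_injective M.subtype_injective]
    exact Nat.coprime_two_right.1 (Cores.coprime_card_pPrimeCore 2)
  have hMD : M ≤ normalizer (D : Set G) := fun g hg => mem_normalizer_fintype fun x hx => by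
    obtain ⟨r, hr, rfl⟩ := hx
    exact ⟨⟨g, hg⟩ * r * ⟨g, hg⟩⁻¹, (inferInstance : (Cfsg.oddCore ↥M).Normal).conj_mem r hr _, rfl⟩
  have hTD : ∀ v ∈ A, v ≠ 1 → T v ⊓ M ≤ D := fun v hv hv1 =>
    h.odd_le_core hMtop (S.2.to_le inf_le_left) (le_inf hs.le hAM) inf_le_right (fun e => hqA (e hqQ))
      inf_le_right ((hT.odd v hv hv1).of_dvd_nat (card_dvd_of_le inf_le_left))
      fun g hg => mem_normalizer_fintype fun x hx =>
        ⟨(mem_normalizer_iff.1 (hT.normal v hv hv1 (centralizer_A_le hT hs hv hv1 (hs.central hg.1))) x).1 hx.1,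
          M.mul_mem (M.mul_mem hg.2 hx.2) (M.inv_mem hg.2)⟩
  have htD : t ∈ D := hTD a ha ha1 ⟨ht, mem_centralizer_singleton_iff.2 hty⟩
  have huD : u ∈ D := hTD b hb hb1 ⟨hu, mem_centralizer_singleton_iff.2 huy⟩
  have hAR : ∀ r : ℕ, A ≤ normalizer (part D r : Set G) := fun r =>
    (hAM.trans hMD).trans (normalizer_le_part D r)
  -- no centre of a part meets a `T v`
  have hcen : ∀ r : ℕ, r.Prime → ∀ v ∈ A, v ≠ 1 → ∀ w ∈ part D r,
      (∀ x ∈ part D r, x * w = w * x) → w ∈ T v → w = 1 := by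
    intro r hr v hv hv1 w hw hwc hwT
    by_contra hw1
    have hR : part D r ≤ centralizer ({v} : Set G) := fun x hx =>
      hcent v hv hv1 w hwT hw1 (mem_centralizer_singleton_iff.2 (hwc x hx))
    have key : ∀ c ∈ A, c ≠ 1 → c ≠ v → ∀ z ∈ T c, z ∈ D → z = 1 := by
      intro c hc hc1 hcv z hz hzD
      have hzn : z ∈ normalizer (part D r : Set G) := normalizer_le_part D r (le_normalizer hzD)
      have hzw : z * w = w * z := hT.commute_of_inverted hc hc1 hv hv1 (Ne.symm hcv) hz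
        (mem_centralizer_singleton_iff.1 (hR hw)).symm
        (mem_centralizer_singleton_iff.1 (hR ((mem_normalizer_iff.1 hzn w).1 hw))).symm
      have hzv : z * v = v * z := mem_centralizer_singleton_iff.1
        (hcent v hv hv1 w hwT hw1 (mem_centralizer_singleton_iff.2 hzw))
      have hi := hT.inverts c hc hc1 v hv hv1 (Ne.symm hcv) z hz
      rw [← hzv, mul_inv_cancel_right] at hi
      obtain ⟨k, hk⟩ := hDodd.of_dvd_nat (Subgroup.orderOf_dvd_natCard _ hzD)
      have h2 := pow_orderOf_eq_one z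
      rwa [hk, pow_succ, pow_mul, pow_two, show z * z = 1 from mul_eq_one_iff_eq_inv.2 hi, one_pow, one_mul] at h2
    by_cases hva : v = a
    · exact hu1 (key b hb hb1 (fun e => hab (hva ▸ e.symm)) u hu huD)
    · exact ht1 (key a ha ha1 (Ne.symm hva) t ht htD)
  -- every part lies in `C(A)`
  have hpart : ∀ r : ℕ, r.Prime → part D r ≤ centralizer (A : Set G) := by
    intro r hr
    haveI := Fact.mk hr
    set R := part D r with hR
    have hRodd : Odd (Nat.card R) := hDodd.of_dvd_nat (card_dvd_of_le (part_le D r))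
    by_cases hR1 : R = ⊥
    · rw [hR1]; exact bot_le
    set Z := (Subgroup.center ↥R).map R.subtype with hZdef
    have hZR : Z ≤ R := map_subtype_le _
    have hMZ : M ≤ normalizer (Z : Set G) :=
      (hMD.trans (normalizer_le_part D r)).trans (Cores.normalizer_le_normalizer_map _)
    have hZA : Z ≤ centralizer (A : Set G) := by
      by_contra hne
      obtain ⟨v, hv, hv1, w, hw, hwT, hw1⟩ :=
        exists_torus_mem hT hs (hRodd.of_dvd_nat (card_dvd_of_le hZR)) (hAM.trans hMZ) hne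
      obtain ⟨w', hw', rfl⟩ := hw
      exact hw1 (hcen r hr v hv hv1 _ w'.2
        (fun x hx => congrArg Subtype.val (Subgroup.mem_center_iff.1 hw' ⟨x, hx⟩)) hwT)
    have hZcore : Z ≤ coreA A := fun z hz => by
      have hqz : z * q * z⁻¹ * q⁻¹ ∈ Z := by
        rw [show z * q * z⁻¹ * q⁻¹ = z * (q * z⁻¹ * q⁻¹) by group]
        exact mul_mem hz ((mem_normalizer_iff.1 (hMZ hqQ.2) _).1 (inv_mem hz))
      exact hs.mem_coreA_of_commutator (hZA hz) (hRodd.of_dvd_nat (Subgroup.orderOf_dvd_natCard _ (hZR hz)))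
        hq hqA (hRodd.of_dvd_nat (card_dvd_of_le hZR)) hqz
    have hrcore : r ∣ Nat.card ↥(coreA A) := by
      have hRp : IsPGroup r ↥R := part_isPGroup D r
      haveI : Nontrivial ↥R := (Subgroup.nontrivial_iff_ne_bot _).2 hR1
      haveI := hRp.center_nontrivial
      obtain ⟨n, hn, hcard⟩ := IsPGroup.nontrivial_iff_card (hRp.to_subgroup _) |>.1
        (inferInstance : Nontrivial ↥(Subgroup.center ↥R))
      refine (dvd_pow_self r hn.ne').trans ?_
      rw [← hcard, ← card_map_of_injective R.subtype_injective]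
      exact card_dvd_of_le hZcore
    haveI : IsMulCommutative ↥A := ⟨⟨fun x z => Subtype.ext (hs.commute x.2 (hs.le z.2))⟩⟩
    refine Coprime.le_of_noncyclic hs.not_isCyclic (hAR r)
      (by rw [hs.card, show 4 = 2 ^ 2 by rfl]; exact (Nat.coprime_two_left.2 hRodd).pow_left 2)
      fun v hv hv1 x hx => ?_
    by_contra hxA
    obtain ⟨c, hc, -, -, hw, hw1⟩ := exists_comm_mem hT hs hv hv1 hx.2 hxA
    have hwR : x * c * x⁻¹ * c⁻¹ ∈ R := by
      rw [show x * c * x⁻¹ * c⁻¹ = x * (c * x⁻¹ * c⁻¹) by group]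
      exact mul_mem hx.1 ((mem_normalizer_iff.1 (hAR r hc) _).1 (inv_mem hx.1))
    obtain ⟨j, hj⟩ := IsPGroup.iff_orderOf.1 (part_isPGroup D r) ⟨_, hwR⟩
    rw [Subgroup.orderOf_mk] at hj
    refine hw1 (orderOf_eq_one_iff.1 (Nat.eq_one_of_dvd_coprimes
      (((hT.coprime v hv hv1).coprime_dvd_right hrcore).pow_right j)
      (Subgroup.orderOf_dvd_natCard _ hw) hj.dvd))
  -- so `t` lies in `C(A)`
  have htA : t ∈ centralizer (A : Set G) := by
    refine mem_of_centralizes_parts hDodd htD (fun r hr x hx => ?_) hpart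
    have htn : t ∈ normalizer (part D r : Set G) := normalizer_le_part D r (le_normalizer htD)
    have h1 : t * x * t⁻¹ * x⁻¹ ∈ T a ⊓ centralizer (A : Set G) := by
      refine ⟨?_, hpart r hr (mul_mem ((mem_normalizer_iff.1 htn x).1 hx) (inv_mem hx))⟩
      rw [show t * x * t⁻¹ * x⁻¹ = t * (x * t⁻¹ * x⁻¹) by group]
      exact mul_mem ht ((mem_normalizer_iff.1
        (hT.normal a ha ha1 (centralizer_A_le hT hs ha ha1 (hpart r hr hx))) _).1 (inv_mem ht))
    rw [inf_eq_bot hT hs ha ha1, mem_bot] at h1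
    exact mul_inv_eq_iff_eq_mul.1 (mul_inv_eq_one.1 h1)
  have hb' : t ∈ T a ⊓ centralizer (A : Set G) := ⟨ht, htA⟩
  rw [inf_eq_bot hT hs ha ha1, mem_bot] at hb'
  exact ht1 hb'

/-- `C(y) ≤ C(a)` for `y ∈ O(C(A))` fixing a point of `T a`, given (d). -/
theorem fixer (h : Hyp S A)
    (hcent : ∀ a ∈ A, a ≠ 1 → ∀ t ∈ T a, t ≠ 1 → centralizer ({t} : Set G) ≤ centralizer ({a} : Set G))
    (hcore : coreA A ≤ centralizer ((S : Subgroup G) : Set G)) :
    ∀ y ∈ coreA A, y ≠ 1 → ∀ a ∈ A, a ≠ 1 → ∀ t ∈ T a, t ≠ 1 → t * y = y * t →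
      centralizer ({y} : Set G) ≤ centralizer ({a} : Set G) := by
  haveI := h.simple
  intro y hy hy1 a ha ha1 t ht ht1 hty
  have hs := h.setting
  set M := centralizer ({y} : Set G) with hM
  have hSM : (S : Subgroup G) ≤ M := fun s hs' =>
    mem_centralizer_singleton_iff.2 (mem_centralizer_iff.1 (hcore hy) s hs')
  obtain ⟨σ, hσ, hσa⟩ := hs.exists_root ha ha1
  have hno : ∀ v ∈ A, v ≠ 1 → v ≠ a → ∀ u ∈ T v, u * y = y * u → u = 1 := fun v hv hv1 hva u hu huy => by
    by_contra hu1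
    exact noTwoTypes hT h hcent y hy hy1 σ hσ (hs.not_mem_of_sq ha1 hσa)
      (mem_centralizer_iff.1 (hcore hy) σ hσ) a ha ha1 v hv hv1 (Ne.symm hva) t ht ht1 hty u hu hu1 huy
  set D := (Cfsg.oddCore ↥M).map M.subtype with hDdef
  have hDodd : Odd (Nat.card D) := by
    rw [hDdef, card_map_of_injective M.subtype_injective]
    exact Nat.coprime_two_right.1 (Cores.coprime_card_pPrimeCore 2)
  have hMD : M ≤ normalizer (D : Set G) := fun g hg => mem_normalizer_fintype fun x hx => by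
    obtain ⟨r, hr, rfl⟩ := hx
    exact ⟨⟨g, hg⟩ * r * ⟨g, hg⟩⁻¹, (inferInstance : (Cfsg.oddCore ↥M).Normal).conj_mem r hr _, rfl⟩
  haveI : IsMulCommutative ↥A := ⟨⟨fun x z => Subtype.ext (hs.commute x.2 (hs.le z.2))⟩⟩
  have hDa : D ≤ centralizer ({a} : Set G) := by
    refine Coprime.le_of_noncyclic hs.not_isCyclic ((hs.le.trans hSM).trans hMD)
      (by rw [hs.card, show 4 = 2 ^ 2 by rfl]; exact (Nat.coprime_two_left.2 hDodd).pow_left 2)
      fun v hv hv1 x hx => ?_
    by_cases hva : v = a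
    · exact hva ▸ hx.2
    refine centralizer_A_le hT hs ha ha1 ?_
    by_contra hxA
    obtain ⟨c, hc, -, -, hw, hw1⟩ := exists_comm_mem hT hs hv hv1 hx.2 hxA
    refine hw1 (hno v hv hv1 hva _ hw (mem_centralizer_singleton_iff.1 ?_))
    have hxM : x ∈ M := map_subtype_le _ hx.1
    exact M.mul_mem (M.mul_mem (M.mul_mem hxM (hSM (hs.le hc))) (M.inv_mem hxM))
      (M.inv_mem (hSM (hs.le hc)))
  have hiso : ∀ g ∈ M, g * a * g⁻¹ ∈ A → g * a * g⁻¹ = a := by
    intro g hg hgA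
    by_contra hne
    obtain ⟨n, hnN, hnM, hna⟩ := hs.exists_moving_mem ha hSM hg hgA hne
    have hnA : n ∈ normalizer (A : Set G) := mem_normalizer_fintype fun z hz => hs.conj_mem hnN hz
    have hu := hT.equiv n hnA a ha ha1 t ht
    refine ht1 (conj_eq_one_iff.1 (hno _ (hs.conj_mem hnN ha) (fun e => ha1 (conj_eq_one_iff.1 e)) hna _ hu ?_))
    exact mem_centralizer_singleton_iff.1
      (M.mul_mem (M.mul_mem hnM (mem_centralizer_singleton_iff.2 hty)) (M.inv_mem hnM))
  intro m hm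
  obtain ⟨d, hd, c, hc, rfl⟩ := (hs.core_factor ha ha1 hSM hiso).2 m hm
  exact mul_mem (hDa hd) hc

end TorusData

end Cfsg.Agent.Goldschmidt.ThreeInv
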