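import Cfsg.Agent.EqLemmas
import Cfsg.Agent.Lib.Goldschmidt.ThreeInv.Cent.Fixer

/-!
# Three involutions, section 2: assembly (owner: helper63)

* `centralisersTarget_of` : section 2 from (d) and (e)
-/

set_option autoImplicit false
set_option linter.style.haveILetI false

namespace Cfsg.Agent.Goldschmidt.ThreeInv

open Cfsg Subgroup

universe u

/-- Section 2 from its pieces (d), (e). -/
theorem centralisersTarget_of (hcc : CoreCentTarget.{u}) (hpow : PowFourTarget.{u}) :
    CentralisersTarget.{u} := by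
  intro G _ _ S A T h hT
  haveI := h.simple
  have hs := h.setting
  have hcent : ∀ a ∈ A, a ≠ 1 → ∀ t ∈ T a, t ≠ 1 →
      centralizer ({t} : Set G) ≤ centralizer ({a} : Set G) := fun a ha ha1 t ht ht1 =>
    hT.centralizer_torus_le hpow h ha ha1 ht ht1
  have hcore := hcc G S A T h hT (hT.noTwoTypes h hcent)
  refine ⟨fun a ha ha1 M hM hCM => hT.maximal h ha ha1 hM hCM, hcent, hT.fixer h hcent hcore, hcore,
    fun a ha ha1 => ?_⟩
  obtain ⟨k, hk⟩ := hpow G S A T hs hT a ha ha1 (T a) le_rfl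
    ((hs.central.trans (TorusData.centralizer_A_le hT hs ha ha1)).trans (hT.normal a ha ha1))
  have hodd : Odd k := (Nat.odd_pow_iff (by norm_num : (4 : ℕ) ≠ 0)).1 (hk ▸ hT.odd a ha ha1)
  have hk1 : k ≠ 1 := fun e => hT.ne a ha ha1 (Subgroup.card_eq_one.1 (by rw [hk, e, one_pow]))
  obtain ⟨j, rfl⟩ := hodd
  exact ⟨2 * j + 1, by omega, hk⟩

end Cfsg.Agent.Goldschmidt.ThreeInv
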