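import Cfsg.Agent.EqLemmas
import Cfsg.Agent.Lib.Goldschmidt.ThreeInv.Cent.Defs
import Mathlib.Algebra.Module.ZMod
import Mathlib.LinearAlgebra.Determinant

/-!
# Three involutions, section 2 (e): orders of `S`-invariant subgroups of `T a` (owner: helper63)

* `exists_sq_card` : an odd abelian group with automorphisms `i`, `j` whose commutator is inversion has
  square order
* `powFourTarget` : `|V| = k ^ 4`
-/

set_option autoImplicit false
set_option linter.unusedSectionVars false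
set_option linter.style.haveILetI false

namespace Cfsg.Agent.Goldschmidt.ThreeInv

open Subgroup

universe u

/-- The elementary abelian case, by determinants. -/
theorem card_eq_sq_of_anticommute {p : ℕ} [Fact p.Prime] (hp : p ≠ 2) {V : Type*} [AddCommGroup V]
    [Module (ZMod p) V] [Finite V] (I J : V ≃ₗ[ZMod p] V)
    (h : ∀ v, I (J v) = -J (I v)) : ∃ m, Nat.card V = (p ^ m) ^ 2 := by
  haveI : Module.Finite (ZMod p) V := Module.Finite.of_finite
  have e : (I : V →ₗ[ZMod p] V).comp (J : V →ₗ[ZMod p] V) =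
      (-1 : ZMod p) • (J : V →ₗ[ZMod p] V).comp (I : V →ₗ[ZMod p] V) := LinearMap.ext fun v => by
    simp [h v]
  have hd := congrArg LinearMap.det e
  rw [LinearMap.det_smul, LinearMap.det_comp, LinearMap.det_comp, mul_comm (LinearMap.det (J : V →ₗ[ZMod p] V))] at hd
  have hne : LinearMap.det (I : V →ₗ[ZMod p] V) * LinearMap.det (J : V →ₗ[ZMod p] V) ≠ 0 :=
    mul_ne_zero I.isUnit_det'.ne_zero J.isUnit_det'.ne_zero
  have h1 : (-1 : ZMod p) ^ Module.finrank (ZMod p) V = 1 := by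
    have := mul_right_cancel₀ hne (hd.symm.trans (one_mul _).symm)
    exact this
  rcases Nat.even_or_odd (Module.finrank (ZMod p) V) with ⟨m, hm⟩ | ho
  · refine ⟨m, ?_⟩
    rw [Module.natCard_eq_pow_finrank (K := ZMod p), hm, Nat.card_zmod, ← pow_mul]
    ring
  exfalso
  rw [ho.neg_one_pow] at h1
  have h2 : ((2 : ℕ) : ZMod p) = 0 := by
    push_cast
    linear_combination -h1
  exact hp ((Nat.prime_dvd_prime_iff_eq Fact.out Nat.prime_two).1 ((ZMod.natCast_eq_zero_iff 2 p).1 h2))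

/-- An odd abelian group with automorphisms `I`, `J` whose commutator is inversion has square order. -/
theorem exists_sq_card : ∀ (n : ℕ) (V : Type u) [CommGroup V] [Finite V], Nat.card V = n → Odd n →
    ∀ I J : MulAut V, (∀ v, I (J v) = (J (I v))⁻¹) → ∃ k : ℕ, n = k ^ 2 := by
  intro n
  induction n using Nat.strong_induction_on with
  | _ n ih =>
    intro V _ _ hn hodd I J h
    by_cases h1 : n = 1
    · exact ⟨1, by simp [h1]⟩
    obtain ⟨p, hp, hpn⟩ := Nat.exists_prime_and_dvd h1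
    haveI := Fact.mk hp
    have hp2 : p ≠ 2 := fun e => Nat.not_even_iff_odd.2 hodd (even_iff_two_dvd.2 (e ▸ hpn))
    set f : V →* V := powMonoidHom p with hf
    have hker : ∀ (K : MulAut V) (v : V), v ∈ f.ker → K v ∈ f.ker := fun K v hv => by
      rw [MonoidHom.mem_ker, hf, powMonoidHom_apply] at hv ⊢
      rw [← map_pow, hv, map_one]
    have hran : ∀ (K : MulAut V) (v : V), v ∈ f.range → K v ∈ f.range := by
      rintro K v ⟨w, rfl⟩
      exact ⟨K w, by rw [hf, powMonoidHom_apply, powMonoidHom_apply, map_pow]⟩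
    let res : ∀ (W : Subgroup V), (∀ (K : MulAut V) (v : V), v ∈ W → K v ∈ W) → MulAut V → MulAut ↥W :=
      fun W hW K =>
        { toFun := fun w => ⟨K w, hW K w w.2⟩
          invFun := fun w => ⟨K.symm w, hW K.symm w w.2⟩
          left_inv := fun w => Subtype.ext (K.symm_apply_apply w)
          right_inv := fun w => Subtype.ext (K.apply_symm_apply w)
          map_mul' := fun x y => Subtype.ext (map_mul K (x : V) y) }
    have hmul : Nat.card ↥f.ker * Nat.card ↥f.range = n := by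
      rw [← Subgroup.index_ker, f.ker.card_mul_index, hn]
    -- the kernel
    obtain ⟨a, ha⟩ : ∃ a, Nat.card ↥f.ker = a ^ 2 := by
      have hexp : ∀ x : Additive ↥f.ker, p • x = 0 := fun x => by
        rw [← ofMul_toMul x, ← ofMul_pow, ← ofMul_one]
        exact congrArg Additive.ofMul (Subtype.ext (MonoidHom.mem_ker.1 (Additive.toMul x).2))
      letI : Module (ZMod p) (Additive ↥f.ker) := AddCommGroup.zmodModule hexp
      let lin : MulAut ↥f.ker → (Additive ↥f.ker ≃ₗ[ZMod p] Additive ↥f.ker) := fun K =>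
        { (MulEquiv.toAdditive K : Additive ↥f.ker ≃+ Additive ↥f.ker) with
          map_smul' := fun c x => ZMod.map_smul (MulEquiv.toAdditive K).toAddMonoidHom c x }
      have he := card_eq_sq_of_anticommute hp2 (lin (res f.ker hker I)) (lin (res f.ker hker J))
        fun v => congrArg Additive.ofMul (Subtype.ext (h (Additive.toMul v : ↥f.ker)))
      obtain ⟨m, hm⟩ := he
      exact ⟨p ^ m, (Nat.card_congr Additive.ofMul).trans hm⟩
    have hker1 : 1 < Nat.card ↥f.ker := by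
      obtain ⟨x, hx⟩ := exists_prime_orderOf_dvd_card' (G := V) p (hn ▸ hpn)
      refine (Subgroup.one_lt_card_iff_ne_bot _).2 fun e => ?_
      have : x ∈ f.ker := by
        rw [MonoidHom.mem_ker, hf, powMonoidHom_apply, ← hx, pow_orderOf_eq_one]
      rw [e, mem_bot] at this
      rw [this, orderOf_one] at hx
      exact hp.ne_one hx.symm
    obtain ⟨b, hb⟩ := ih (Nat.card ↥f.range)
      (by rw [← hmul]; exact lt_mul_of_one_lt_left Nat.card_pos hker1) ↥f.range rfl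
      (hodd.of_dvd_nat ⟨_, by rw [mul_comm]; exact hmul.symm⟩) (res f.range hran I) (res f.range hran J)
      fun v => Subtype.ext (h (v : V))
    exact ⟨a * b, by rw [← hmul, ha, hb, mul_pow]⟩

variable {G : Type u} [Group G] [Finite G]

/-- Section 2 (e). -/
theorem powFourTarget : PowFourTarget.{u} := by
  intro G _ _ _ S A T h hT a ha ha1 V hV hSV
  classical
  have hsh := h.usylow.shape
  obtain ⟨σ, hσ, hσa⟩ := h.exists_root ha ha1
  have hσA : σ ∉ A := h.not_mem_of_sq ha1 hσa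
  set σ₀ : ↥(S : Subgroup G) := ⟨σ, hσ⟩
  have hσ₀ : σ₀ ∉ Subgroup.center ↥(S : Subgroup G) := fun e => hσA ((h.mem_center_iff σ₀).1 e)
  obtain ⟨b, hb, hb1, hba⟩ : ∃ b ∈ A, b ≠ 1 ∧ b ≠ a := by
    by_contra hno
    push Not at hno
    have hA : A ≤ zpowers a := fun y hy => by
      by_cases hy1 : y = 1
      · rw [hy1]; exact one_mem _
      · rw [hno y hy hy1]; exact mem_zpowers a
    have h1 := Subgroup.card_le_of_le hA
    rw [h.card, Nat.card_zpowers] at h1
    have h2 := orderOf_le_of_pow_eq_one (n := 2) (by norm_num) (by rw [pow_two]; exact h.sq ha : a ^ 2 = 1)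
    omega
  have hVT : ∀ x ∈ V, a * x * a⁻¹ = x := fun x hx => by
    rw [← mem_centralizer_singleton_iff.1 (hT.le a ha ha1 (hV hx)), mul_inv_cancel_right]
  have hVb : ∀ x ∈ V, b * x * b⁻¹ = x⁻¹ := fun x hx => hT.inverts a ha ha1 b hb hb1 hba x (hV hx)
  have hVc : ∀ x ∈ V, ∀ y ∈ V, x * y = y * x := fun x hx y hy =>
    congrArg Subtype.val ((hT.comm a ha ha1).is_comm.comm (⟨x, hV hx⟩ : ↥(T a)) ⟨y, hV hy⟩)
  -- `w` swaps the two eigenspaces of `σ`
  obtain ⟨w, hw⟩ := hsh.exists_conj hσ₀ (c := ⟨b, h.le hb⟩) ((h.mem_center_iff _).2 hb)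
  -- `j` fixes `σ` modulo `a`, `i` centralises it, `[i, j] = b`
  obtain ⟨j, hj⟩ := hsh.exists_conj hσ₀ (c := ⟨a, h.le ha⟩) ((h.mem_center_iff _).2 ha)
  set C := centralizer ({σ₀} : Set ↥(S : Subgroup G)) with hC
  obtain ⟨i, hiC, hij⟩ : ∃ i ∈ C, i * j * i⁻¹ * j⁻¹ = (⟨b, h.le hb⟩ : ↥(S : Subgroup G)) := by
    let φ : ↥C →* ↥(Subgroup.center ↥(S : Subgroup G)) := MonoidHom.mk'
      (fun i => ⟨(i : ↥(S : Subgroup G)) * j * (i : ↥(S : Subgroup G))⁻¹ * j⁻¹, hsh.commutator_mem _ _⟩)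
      fun x y => Subtype.ext (by
        show (x : ↥(S : Subgroup G)) * y * j * ((x : ↥(S : Subgroup G)) * y)⁻¹ * j⁻¹ =
          (x : ↥(S : Subgroup G)) * j * (x : ↥(S : Subgroup G))⁻¹ * j⁻¹ *
            ((y : ↥(S : Subgroup G)) * j * (y : ↥(S : Subgroup G))⁻¹ * j⁻¹)
        have hc := Subgroup.mem_center_iff.1 (hsh.commutator_mem (y : ↥(S : Subgroup G)) j)
        generalize hd : (y : ↥(S : Subgroup G)) * j * (y : ↥(S : Subgroup G))⁻¹ * j⁻¹ = d at hc ⊢
        calc (x : ↥(S : Subgroup G)) * y * j * ((x : ↥(S : Subgroup G)) * y)⁻¹ * j⁻¹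
            = (x : ↥(S : Subgroup G)) * d * (j * (x : ↥(S : Subgroup G))⁻¹ * j⁻¹) := by rw [← hd]; group
          _ = d * (x : ↥(S : Subgroup G)) * (j * (x : ↥(S : Subgroup G))⁻¹ * j⁻¹) := by rw [hc]
          _ = d * ((x : ↥(S : Subgroup G)) * j * (x : ↥(S : Subgroup G))⁻¹ * j⁻¹) := by group
          _ = _ := (hc _).symm)
    have hker : Nat.card ↥φ.ker ≤ 4 := by
      rw [← hsh.center_card]
      refine Nat.card_le_card_of_injective (fun x => ⟨((x : ↥C) : ↥(S : Subgroup G)), ?_⟩)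
        fun x y e => Subtype.ext (Subtype.ext (congrArg Subtype.val e :))
      by_contra hx
      have hxj : ((x : ↥C) : ↥(S : Subgroup G)) * j = j * ((x : ↥C) : ↥(S : Subgroup G)) :=
        mul_inv_eq_iff_eq_mul.1 (mul_inv_eq_one.1 (congrArg Subtype.val (MonoidHom.mem_ker.1 x.2)))
      haveI := UFourSylow.cent_comm hsh hσ₀
      have hle : C ≤ centralizer ({((x : ↥C) : ↥(S : Subgroup G))} : Set ↥(S : Subgroup G)) := fun c hc =>
        mem_centralizer_singleton_iff.2 (congrArg Subtype.val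
          ((IsMulCommutative.is_comm (M := ↥C)).comm ⟨c, hc⟩ (x : ↥C)))
      have heq := Subgroup.eq_of_le_of_card_ge hle (by rw [hsh.cent_card _ hx, hC, hsh.cent_card _ hσ₀])
      have hjC : j ∈ C := heq ▸ mem_centralizer_singleton_iff.2 hxj.symm
      rw [mem_centralizer_singleton_iff.1 hjC, mul_inv_cancel_right] at hj
      exact ha1 (congrArg Subtype.val (mul_eq_right.1 hj.symm))
    have hsur : φ.range = ⊤ := Subgroup.eq_top_of_le_card _ (by
      have := φ.ker.card_mul_index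
      rw [Subgroup.index_ker, show Nat.card ↥C = 16 from hsh.cent_card _ hσ₀] at this
      rw [hsh.center_card]
      nlinarith)
    obtain ⟨i, hi⟩ : (⟨⟨b, h.le hb⟩, (h.mem_center_iff _).2 hb⟩ : ↥(Subgroup.center ↥(S : Subgroup G))) ∈
        φ.range := hsur ▸ mem_top _
    exact ⟨i, i.2, congrArg Subtype.val hi⟩
  -- transport to `G`
  have hw' : (w : G) * σ * (w : G)⁻¹ = b * σ := congrArg Subtype.val hw
  have hj' : (j : G) * σ * (j : G)⁻¹ = a * σ := congrArg Subtype.val hj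
  have hi' : (i : G) * σ * (i : G)⁻¹ = σ := by
    rw [show (i : G) * σ = σ * i from congrArg Subtype.val (mem_centralizer_singleton_iff.1 hiC),
      mul_inv_cancel_right]
  have hij' : (i : G) * j * (i : G)⁻¹ * (j : G)⁻¹ = b := congrArg Subtype.val hij
  have hconj : ∀ s ∈ (S : Subgroup G), ∀ x ∈ V, s * x * s⁻¹ ∈ V := fun s hs x hx =>
    (mem_normalizer_iff.1 (hSV hs) x).1 hx
  -- the fixed space of `σ`
  set Vp := V ⊓ centralizer ({σ} : Set G) with hVp
  have hmemP : ∀ x, x ∈ Vp ↔ x ∈ V ∧ σ * x * σ⁻¹ = x := fun x => by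
    refine and_congr Iff.rfl ⟨fun e => ?_, fun e => mem_centralizer_singleton_iff.2 ?_⟩
    · rw [← mem_centralizer_singleton_iff.1 e, mul_inv_cancel_right]
    · exact (mul_inv_eq_iff_eq_mul.1 e).symm
  have hVodd : Odd (Nat.card V) := (hT.odd a ha ha1).of_dvd_nat (card_dvd_of_le hV)
  have hpres : ∀ s ∈ (S : Subgroup G), (s * σ * s⁻¹ = σ ∨ s * σ * s⁻¹ = a * σ) → ∀ x ∈ Vp, s * x * s⁻¹ ∈ Vp := by
    intro s hs hsσ x hx
    obtain ⟨hxV, hxσ⟩ := (hmemP x).1 hx
    refine (hmemP _).2 ⟨hconj s hs x hxV, ?_⟩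
    have hfix : s * σ * s⁻¹ * (s * x * s⁻¹) * (s * σ * s⁻¹)⁻¹ = s * x * s⁻¹ := by
      rw [show s * σ * s⁻¹ * (s * x * s⁻¹) * (s * σ * s⁻¹)⁻¹ = s * (σ * x * σ⁻¹) * s⁻¹ by group, hxσ]
    rcases hsσ with e | e
    · rwa [e] at hfix
    · rw [e] at hfix
      have h2 := hVT _ (hconj _ hσ _ (hconj s hs x hxV))
      rw [show a * σ * (s * x * s⁻¹) * (a * σ)⁻¹ = a * (σ * (s * x * s⁻¹) * σ⁻¹) * a⁻¹ by group, h2] at hfix
      exact hfix
  have hN : ∀ s ∈ (S : Subgroup G), (s * σ * s⁻¹ = σ ∨ s * σ * s⁻¹ = a * σ) →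
      s ∈ normalizer (Vp : Set G) := fun s hs hsσ => mem_normalizer_fintype fun x hx => hpres s hs hsσ x hx
  obtain ⟨k, hk⟩ : ∃ k, Nat.card ↥Vp = k ^ 2 := by
    letI : CommGroup ↥Vp := { (inferInstance : Group ↥Vp) with
      mul_comm := fun x y => Subtype.ext (hVc x x.2.1 y y.2.1) }
    exact exists_sq_card _ ↥Vp rfl (hVodd.of_dvd_nat (card_dvd_of_le inf_le_left))
      (Vp.normalizerMonoidHom ⟨i, hN i i.2 (Or.inl hi')⟩) (Vp.normalizerMonoidHom ⟨j, hN j j.2 (Or.inr hj')⟩)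
      fun v => Subtype.ext (by
        show (i : G) * ((j : G) * v * (j : G)⁻¹) * (i : G)⁻¹ = ((j : G) * ((i : G) * v * (i : G)⁻¹) * (j : G)⁻¹)⁻¹
        have hv' : (j : G) * ((i : G) * v * (i : G)⁻¹) * (j : G)⁻¹ ∈ V := hconj _ j.2 _ (hconj _ i.2 _ v.2.1)
        rw [← hVb _ hv', ← hij']
        group)
  refine ⟨k, ?_⟩
  -- `V = V⁺ × w V⁺ w⁻¹`
  have hwV : ∀ x ∈ Vp, σ * ((w : G) * x * (w : G)⁻¹) * σ⁻¹ = ((w : G) * x * (w : G)⁻¹)⁻¹ := by
    intro x hx
    obtain ⟨hxV, hxσ⟩ := (hmemP x).1 hx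
    have hb2 : b⁻¹ = b := inv_eq_of_mul_eq_one_right (h.sq hb)
    have hy := hconj _ w.2 x hxV
    have hs : σ = b * ((w : G) * σ * (w : G)⁻¹) := by rw [hw', ← mul_assoc, h.sq hb, one_mul]
    calc σ * ((w : G) * x * (w : G)⁻¹) * σ⁻¹
        = b * ((w : G) * σ * (w : G)⁻¹) * ((w : G) * x * (w : G)⁻¹) * (b * ((w : G) * σ * (w : G)⁻¹))⁻¹ := by
          rw [← hs]
      _ = b * ((w : G) * (σ * x * σ⁻¹) * (w : G)⁻¹) * b⁻¹ := by group
      _ = ((w : G) * x * (w : G)⁻¹)⁻¹ := by rw [hxσ, hVb _ hy]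
  let F : ↥Vp × ↥Vp → ↥V := fun p => ⟨(p.1 : G) * ((w : G) * p.2 * (w : G)⁻¹),
    mul_mem p.1.2.1 (hconj _ w.2 _ p.2.2.1)⟩
  have hhalf : ∀ x ∈ V, x * x = 1 → x = 1 := fun x hx hx2 => by
    obtain ⟨m, hm⟩ := hVodd.of_dvd_nat (Subgroup.orderOf_dvd_natCard _ hx)
    have h2 := pow_orderOf_eq_one x
    rwa [hm, pow_succ, pow_mul, pow_two, hx2, one_pow, one_mul] at h2
  have hF : Function.Bijective F := by
    constructor
    · rintro ⟨x, y⟩ ⟨x', y'⟩ e
      have e' : (x : G) * ((w : G) * y * (w : G)⁻¹) = x' * ((w : G) * y' * (w : G)⁻¹) := congrArg Subtype.val e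
      have hd : (x' : G)⁻¹ * x = (w : G) * (y' * (y : G)⁻¹) * (w : G)⁻¹ := by
        rw [show (x : G) = x' * ((w : G) * y' * (w : G)⁻¹) * ((w : G) * y * (w : G)⁻¹)⁻¹ by rw [← e']; group]
        group
      have hz : (x' : G)⁻¹ * x ∈ Vp := mul_mem (inv_mem x'.2) x.2
      have hone : (x' : G)⁻¹ * x = 1 := by
        refine hhalf _ hz.1 (mul_eq_one_iff_eq_inv.2 ?_)
        have h1 := hwV _ (mul_mem y'.2 (inv_mem y.2))
        rw [← hd, ((hmemP _).1 hz).2] at h1
        exact h1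
      have hxx : x = x' := Subtype.ext (inv_mul_eq_one.1 hone).symm
      subst hxx
      exact Prod.ext rfl (Subtype.ext (mul_left_cancel (mul_right_cancel (mul_left_cancel e'))))
    · intro v
      obtain ⟨m, hm⟩ := hVodd
      have hv : (v : G) ^ (2 * m + 1) = 1 := hm ▸ orderOf_dvd_iff_pow_eq_one.1 (Subgroup.orderOf_dvd_natCard _ v.2)
      set u := σ * (v : G) * σ⁻¹ with hu
      have huV : u ∈ V := hconj σ hσ v v.2
      have huv : Commute (v : G) u := hVc _ v.2 _ huV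
      have hσu : σ * u * σ⁻¹ = v := by
        rw [hu, show σ * (σ * (v : G) * σ⁻¹) * σ⁻¹ = σ * σ * (v : G) * (σ * σ)⁻¹ by group, hσa]
        exact hVT _ v.2
      set x := ((v : G) * u) ^ (m + 1)
      set z := ((v : G) * u⁻¹) ^ (m + 1)
      have hx : x ∈ Vp := by
        refine (hmemP _).2 ⟨pow_mem (mul_mem v.2 huV) _, ?_⟩
        rw [← conj_pow, show σ * ((v : G) * u) * σ⁻¹ = σ * (v : G) * σ⁻¹ * (σ * u * σ⁻¹) by group, hσu, ← hu,
          ← huv.eq]
      have hzV : z ∈ V := pow_mem (mul_mem v.2 (inv_mem huV)) _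
      have hz : σ * z * σ⁻¹ = z⁻¹ := by
        rw [← conj_pow, show σ * ((v : G) * u⁻¹) * σ⁻¹ = σ * (v : G) * σ⁻¹ * (σ * u * σ⁻¹)⁻¹ by group, hσu, ← hu,
          ← inv_pow, mul_inv_rev, inv_inv]
      have hw2 : ((w : G) * σ * (w : G)⁻¹) * z * ((w : G) * σ * (w : G)⁻¹)⁻¹ = z := by
        rw [hw', show b * σ * z * (b * σ)⁻¹ = b * (σ * z * σ⁻¹) * b⁻¹ by group, hz, hVb _ (inv_mem hzV), inv_inv]
      have hy : (w : G)⁻¹ * z * w ∈ Vp := by
        refine (hmemP _).2 ⟨by simpa using hconj _ (inv_mem w.2) z hzV, ?_⟩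
        calc σ * ((w : G)⁻¹ * z * w) * σ⁻¹
            = (w : G)⁻¹ * (((w : G) * σ * (w : G)⁻¹) * z * ((w : G) * σ * (w : G)⁻¹)⁻¹) * w := by group
          _ = _ := by rw [hw2]
      refine ⟨(⟨x, hx⟩, ⟨_, hy⟩), Subtype.ext ?_⟩
      show x * ((w : G) * ((w : G)⁻¹ * z * w) * (w : G)⁻¹) = v
      rw [show (w : G) * ((w : G)⁻¹ * z * w) * (w : G)⁻¹ = z by group]
      have hc2 : Commute ((v : G) * u) ((v : G) * u⁻¹) :=
        hVc _ (mul_mem v.2 huV) _ (mul_mem v.2 (inv_mem huV))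
      calc x * z = ((v : G) * u * ((v : G) * u⁻¹)) ^ (m + 1) := (hc2.mul_pow _).symm
        _ = ((v : G) * v) ^ (m + 1) := by
          rw [show (v : G) * u * ((v : G) * u⁻¹) = (v : G) * (u * v) * u⁻¹ by group, ← huv.eq]
          group
        _ = v := by
          rw [← pow_two, ← pow_mul, show 2 * (m + 1) = 2 * m + 1 + 1 by ring, pow_succ, hv, one_mul]
  rw [← Nat.card_eq_of_bijective F hF, Nat.card_prod, hk, ← pow_add]

end Cfsg.Agent.Goldschmidt.ThreeInv
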